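import Cfsg.Agent.ShortPres.AltBasic
import Cfsg.Prelude.Def_SporadicB

/-!
# Double covers of alternating groups from lifted Carmichael generators
-/

set_option autoImplicit false
set_option linter.unusedSectionVars false

namespace Cfsg.Agent.LyLocal

open Equiv Equiv.Perm Cfsg.Agent.AltMult Cfsg.Agent.ShortPres

variable {β : Type*} [Fintype β] [DecidableEq β] {u v : β}

/-- Carmichael's relators. -/
def carmRels (u v : β) : Set (FreeGroup (Rest u v)) :=
  {g | ∃ x, g = FreeGroup.of x ^ 3} ∪ {g | ∃ x y, x ≠ y ∧ g = (FreeGroup.of x * FreeGroup.of y) ^ 2}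

/-- The presentation of the alternating group by Carmichael generators. -/
theorem carm_iso (huv : u ≠ v) :
    ∃ e : PresentedGroup (carmRels u v) ≃* alternatingGroup β,
      ∀ x, e (PresentedGroup.of x) = cycR huv x := by
  have hrel : ∀ r ∈ carmRels u v, FreeGroup.lift (cycR huv) r = 1 := by
    rintro r (⟨x, rfl⟩ | ⟨x, y, hxy, rfl⟩)
    · simpa using cycR_pow_three huv x
    · simpa using cycR_sq huv x y hxy
  let φ : PresentedGroup (carmRels u v) →* alternatingGroup β := PresentedGroup.toGroup hrel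
  have hφ : Function.Surjective φ := by
    rw [← MonoidHom.range_eq_top, eq_top_iff, ← closure_cycR huv, Subgroup.closure_le]
    rintro _ ⟨x, rfl⟩
    exact ⟨PresentedGroup.of x, PresentedGroup.toGroup.of hrel⟩
  obtain ⟨hfin, hle⟩ := carmichael_criterion huv (PresentedGroup.of (rels := carmRels u v))
    (fun x => by
      rw [PresentedGroup.of, ← map_pow]
      exact PresentedGroup.one_of_mem (Or.inl ⟨x, rfl⟩))
    (fun x y hxy => by
      rw [PresentedGroup.of, PresentedGroup.of, ← map_mul, ← map_pow]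
      exact PresentedGroup.one_of_mem (Or.inr ⟨x, y, hxy, rfl⟩))
    (PresentedGroup.closure_range_of _)
  exact ⟨MulEquiv.ofBijective φ (hφ.bijective_of_nat_card_le hle), fun x => PresentedGroup.toGroup.of hrel⟩

/-- Lifted Carmichael generators with squares of products equal to a central involution. -/
structure Lifts (u v : β) (K : Type*) [Group K] where
  E : Rest u v → K
  t : K
  t_ne : t ≠ 1
  t_sq : t * t = 1
  t_comm : ∀ x, Commute t (E x)
  cube : ∀ x, E x ^ 3 = 1
  prod_sq : ∀ x y, x ≠ y → (E x * E y) ^ 2 = t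

namespace Lifts

variable {K : Type*} [Group K] (L : Lifts u v K)

/-- The group generated by the lifts. -/
def grp : Subgroup K := Subgroup.closure (Set.range L.E)

theorem E_mem (x : Rest u v) : L.E x ∈ L.grp := Subgroup.subset_closure ⟨x, rfl⟩

theorem t_mem (h5 : 5 ≤ Fintype.card β) (huv : u ≠ v) : L.t ∈ L.grp := by
  have : 1 < Fintype.card (Rest u v) := by have := card_rest huv; omega
  obtain ⟨x, y, hxy⟩ := Fintype.one_lt_card_iff.1 this
  rw [← L.prod_sq x y hxy]
  exact pow_mem (mul_mem (L.E_mem x) (L.E_mem y)) 2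

theorem t_central {g : K} (hg : g ∈ L.grp) : g * L.t = L.t * g := by
  induction hg using Subgroup.closure_induction with
  | mem x hx => obtain ⟨i, rfl⟩ := hx; exact (L.t_comm i).eq.symm
  | one => simp
  | mul a b _ _ ha hb => exact Commute.mul_left ha hb
  | inv a _ ha => exact Commute.inv_left ha

theorem exists_proj (h5 : 5 ≤ Fintype.card β) (huv : u ≠ v) :
    ∃ π : L.grp →* alternatingGroup β, Function.Surjective π ∧
      (∀ g : L.grp, π g = 1 ↔ (g : K) = 1 ∨ (g : K) = L.t) ∧
      ∀ x, π ⟨L.E x, L.E_mem x⟩ = cycR huv x := by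
  classical
  let t' : L.grp := ⟨L.t, L.t_mem h5 huv⟩
  have hc : Subgroup.zpowers t' ≤ Subgroup.center L.grp := by
    rw [Subgroup.zpowers_le, Subgroup.mem_center_iff]
    exact fun g => Subtype.ext (L.t_central g.2)
  set N := Subgroup.zpowers t' with hN
  have : N.Normal := ⟨fun n hn g => by
    rw [Subgroup.mem_center_iff.1 (hc hn) g, mul_inv_cancel_right]; exact hn⟩
  have hN2 : ∀ g : L.grp, g ∈ N ↔ (g : K) = 1 ∨ (g : K) = L.t := by
    intro g
    constructor
    · rintro ⟨k, rfl⟩
      show L.t ^ k = 1 ∨ L.t ^ k = L.t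
      rcases Int.even_or_odd k with ⟨m, rfl⟩ | ⟨m, rfl⟩
      · left
        rw [← two_mul, zpow_mul, zpow_two, L.t_sq, one_zpow]
      · right
        rw [zpow_add, zpow_mul, zpow_two, L.t_sq, one_zpow, one_mul, zpow_one]
    · rintro (h | h)
      · rw [show g = 1 from Subtype.ext h]; exact one_mem _
      · rw [show g = t' from Subtype.ext h]; exact Subgroup.mem_zpowers _
  let F : Rest u v → L.grp ⧸ N := fun x => QuotientGroup.mk' N ⟨L.E x, L.E_mem x⟩
  have hrel : ∀ r ∈ carmRels u v, FreeGroup.lift F r = 1 := by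
    rintro r (⟨x, rfl⟩ | ⟨x, y, hxy, rfl⟩)
    · simp only [map_pow, FreeGroup.lift_apply_of, F]
      rw [← map_pow, QuotientGroup.mk'_apply, QuotientGroup.eq_one_iff]
      exact (hN2 _).2 (Or.inl (L.cube x))
    · simp only [map_pow, map_mul, FreeGroup.lift_apply_of, F]
      rw [← map_mul, ← map_pow, QuotientGroup.mk'_apply, QuotientGroup.eq_one_iff]
      exact (hN2 _).2 (Or.inr (L.prod_sq x y hxy))
  let φ : PresentedGroup (carmRels u v) →* L.grp ⧸ N := PresentedGroup.toGroup hrel
  have hφ : Function.Surjective φ := by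
    intro q
    obtain ⟨⟨g, hg⟩, rfl⟩ := QuotientGroup.mk'_surjective N q
    induction hg using Subgroup.closure_induction with
    | mem x hx =>
      obtain ⟨i, rfl⟩ := hx
      exact ⟨PresentedGroup.of i, PresentedGroup.toGroup.of hrel⟩
    | one => exact ⟨1, by rw [map_one]; rfl⟩
    | mul a b ha hb iha ihb =>
      obtain ⟨p, hp⟩ := iha
      obtain ⟨q, hq⟩ := ihb
      exact ⟨p * q, by rw [map_mul, hp, hq]; rfl⟩
    | inv a ha iha =>
      obtain ⟨p, hp⟩ := iha
      exact ⟨p⁻¹, by rw [map_inv, hp]; rfl⟩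
  obtain ⟨e, he⟩ := carm_iso (β := β) huv
  have : IsSimpleGroup (alternatingGroup β) :=
    alternatingGroup.isSimpleGroup (by rw [Nat.card_eq_fintype_card]; exact h5)
  have : IsSimpleGroup (PresentedGroup (carmRels u v)) := e.isSimpleGroup
  have hinj : Function.Injective φ := by
    rcases φ.normal_ker.eq_bot_or_eq_top with h | h
    · exact (MonoidHom.ker_eq_bot_iff φ).1 h
    · exfalso
      have hall : ∀ x, L.E x = 1 := by
        intro x
        have h1 : φ (PresentedGroup.of x) = 1 := MonoidHom.mem_ker.1 (h ▸ Subgroup.mem_top _)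
        rw [PresentedGroup.toGroup.of hrel] at h1
        rcases (hN2 _).1 ((QuotientGroup.eq_one_iff _).1 h1) with h2 | h2
        · exact h2
        · have h3 := L.cube x
          rw [show L.E x = L.t from h2, pow_succ, pow_two, L.t_sq, one_mul] at h3
          exact absurd h3 L.t_ne
      have : 1 < Fintype.card (Rest u v) := by have := card_rest huv; omega
      obtain ⟨x, y, hxy⟩ := Fintype.one_lt_card_iff.1 this
      have h4 := L.prod_sq x y hxy
      rw [hall x, hall y, one_mul, one_pow] at h4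
      exact L.t_ne h4.symm
  let ψ := MulEquiv.ofBijective φ ⟨hinj, hφ⟩
  refine ⟨(ψ.symm.trans e).toMonoidHom.comp (QuotientGroup.mk' N),
    (ψ.symm.trans e).surjective.comp (QuotientGroup.mk'_surjective N), fun g => ?_, fun x => ?_⟩
  · rw [MonoidHom.comp_apply, MulEquiv.coe_toMonoidHom, EmbeddingLike.map_eq_one_iff,
      QuotientGroup.mk'_apply, QuotientGroup.eq_one_iff, hN2]
  · have h1 : ψ.symm (F x) = PresentedGroup.of x :=
      ψ.symm_apply_eq.2 (PresentedGroup.toGroup.of hrel).symm
    show e (ψ.symm (F x)) = _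
    rw [h1, he]

theorem grp_finite (h5 : 5 ≤ Fintype.card β) (huv : u ≠ v) : Finite L.grp := by
  classical
  obtain ⟨π, -, hk, -⟩ := L.exists_proj h5 huv
  have : Finite π.ker := by
    refine Finite.of_injective (fun g : π.ker => decide ((g : K) = 1)) fun a b h => ?_
    have ha := (hk a.1).1 (MonoidHom.mem_ker.1 a.2)
    have hb := (hk b.1).1 (MonoidHom.mem_ker.1 b.2)
    apply Subtype.ext; apply Subtype.ext
    rcases ha with ha | ha <;> rcases hb with hb | hb <;> rw [ha, hb] <;>
      simp [ha, hb, L.t_ne] at h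
  have : Finite (L.grp ⧸ π.ker) := Finite.of_equiv _ (QuotientGroup.quotientKerEquivRange π).toEquiv.symm
  exact Finite.of_subgroup_quotient π.ker

theorem card_grp (h5 : 5 ≤ Fintype.card β) (huv : u ≠ v) :
    Nat.card L.grp = 2 * Nat.card (alternatingGroup β) := by
  obtain ⟨π, hs, hk, -⟩ := L.exists_proj h5 huv
  have h2 : Nat.card π.ker = 2 := by
    rw [Nat.card_eq_two_iff]
    refine ⟨1, ⟨⟨L.t, L.t_mem h5 huv⟩, MonoidHom.mem_ker.2 ((hk _).2 (Or.inr rfl))⟩,
      fun h => L.t_ne (congrArg (fun g : π.ker => (g : K)) h).symm, ?_⟩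
    refine Set.eq_univ_of_forall fun g => ?_
    rcases (hk g.1).1 (MonoidHom.mem_ker.1 g.2) with h | h
    · exact Or.inl (Subtype.ext (Subtype.ext h))
    · exact Or.inr (Subtype.ext (Subtype.ext h))
  rw [π.ker.card_eq_card_quotient_mul_card_subgroup,
    Nat.card_congr (QuotientGroup.quotientKerEquivOfSurjective π hs).toEquiv, h2, Nat.mul_comm]

/-- The lifts generate a non-split double cover. -/
theorem nonsplit (h5 : 5 ≤ Fintype.card β) (huv : u ≠ v) :
    Cfsg.IsNonsplitDoubleCover L.grp (alternatingGroup β) := by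
  obtain ⟨π, hs, hk, -⟩ := L.exists_proj h5 huv
  have : IsSimpleGroup (alternatingGroup β) :=
    alternatingGroup.isSimpleGroup (by rw [Nat.card_eq_fintype_card]; exact h5)
  have hcentre : Subgroup.center L.grp = π.ker := by
    refine le_antisymm (fun g hg => ?_) fun g hg => ?_
    · rw [MonoidHom.mem_ker]
      have hbot : Subgroup.center (alternatingGroup β) = ⊥ :=
        alternatingGroup.center_eq_bot (by rw [Nat.card_eq_fintype_card]; omega)
      rw [← Subgroup.mem_bot, ← hbot, Subgroup.mem_center_iff]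
      intro a
      obtain ⟨b, rfl⟩ := hs a
      rw [← map_mul, ← map_mul, Subgroup.mem_center_iff.1 hg b]
    · rw [Subgroup.mem_center_iff]
      intro b
      apply Subtype.ext
      rcases (hk g).1 (MonoidHom.mem_ker.1 hg) with h | h <;> simp [h, L.t_central b.2]
  refine ⟨?_, ?_, fun C hC => ?_⟩
  · have h1 := L.card_grp h5 huv
    rw [hcentre]
    have h2 := π.ker.card_eq_card_quotient_mul_card_subgroup
    rw [Nat.card_congr (QuotientGroup.quotientKerEquivOfSurjective π hs).toEquiv, h1,
      Nat.mul_comm 2] at h2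
    exact (Nat.eq_of_mul_eq_mul_left (Nat.card_pos) h2).symm
  · exact ⟨(QuotientGroup.quotientMulEquivOfEq hcentre).trans
      (QuotientGroup.quotientKerEquivOfSurjective π hs)⟩
  · have : 1 < Fintype.card (Rest u v) := by have := card_rest huv; omega
    obtain ⟨x, y, hxy⟩ := Fintype.one_lt_card_iff.1 this
    let w : L.grp := ⟨L.E x, L.E_mem x⟩ * ⟨L.E y, L.E_mem y⟩
    obtain ⟨⟨⟨z, hz⟩, ⟨c, hcc⟩⟩, hzc : z * c = w⟩ := (hC.existsUnique w).exists
    have hw : w * w = ⟨L.t, L.t_mem h5 huv⟩ :=
      Subtype.ext (by rw [← pow_two]; exact L.prod_sq x y hxy)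
    have hz2 : z * z = 1 := by
      apply Subtype.ext
      have hz' : z ∈ π.ker := hcentre ▸ hz
      rcases (hk z).1 (MonoidHom.mem_ker.1 hz') with h | h <;> simp [h, L.t_sq]
    have hcz : c * z = z * c := Subgroup.mem_center_iff.1 hz c
    have h2 : w * w = c * c := by
      rw [← hzc]
      calc z * c * (z * c) = z * (c * z) * c := by group
        _ = z * (z * c) * c := by rw [hcz]
        _ = (z * z) * (c * c) := by group
        _ = c * c := by rw [hz2, one_mul]
    have htC : (⟨L.t, L.t_mem h5 huv⟩ : L.grp) ∈ C := by rw [← hw, h2]; exact mul_mem hcc hcc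
    have htZ : (⟨L.t, L.t_mem h5 huv⟩ : L.grp) ∈ Subgroup.center L.grp :=
      hcentre ▸ MonoidHom.mem_ker.2 ((hk _).2 (Or.inr rfl))
    have := Subgroup.disjoint_def.1 hC.disjoint htZ htC
    exact L.t_ne (congrArg Subtype.val this)

end Lifts

end Cfsg.Agent.LyLocal
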