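import Cfsg.Agent.Chev.G2OddCentralizer

/-!
# Involutions of groups isomorphic to `G2(5)`
-/

set_option autoImplicit false
set_option maxHeartbeats 1000000

namespace Cfsg.Agent.LyLocal

open Cfsg.Lie Cfsg.Agent.Chev

instance : Fact (Nat.Prime 5) := ⟨by norm_num⟩

theorem g2_invol {Q : Type*} [Group Q] (e : Q ≃* ↥(chevG2.group (ZMod 5))) (h : Q) (hh : orderOf h = 2) :
    Nat.card (Subgroup.centralizer ({h} : Set Q)) = 14400 ∧ ∀ s : Q, orderOf s = 2 → IsConj h s := by
  have hodd : Odd (Fintype.card (ZMod 5)) := by rw [ZMod.card]; decide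
  have hconj : ∀ s s' : Q, orderOf s = 2 → orderOf s' = 2 → IsConj s s' := fun s s' h1 h2 => by
    have := G2Odd.isConj_of_invol hodd (e s) (e s')
      ((orderOf_injective e.toMonoidHom e.injective s).trans h1)
      ((orderOf_injective e.toMonoidHom e.injective s').trans h2)
    obtain ⟨c, hc⟩ := isConj_iff.1 this
    refine isConj_iff.2 ⟨e.symm c, e.injective ?_⟩
    simp [hc]
  refine ⟨?_, fun s hs => hconj h s hh hs⟩
  have heg : orderOf (e h) = 2 := (orderOf_injective e.toMonoidHom e.injective h).trans hh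
  have hsq : (e h : GL chevG2.Idx (ZMod 5)) * (e h : GL chevG2.Idx (ZMod 5)) = 1 := by
    rw [← pow_two, ← SubgroupClass.coe_pow, ← heg, pow_orderOf_eq_one]; rfl
  have hne : (e h : GL chevG2.Idx (ZMod 5)) ≠ 1 := fun h1 => by
    rw [show e h = 1 from Subtype.ext h1, orderOf_one] at heg
    norm_num at heg
  obtain ⟨c, hc, hcz⟩ := G2Odd.conj_std hodd (e h).2 hsq hne
  obtain ⟨-, -, C, hC, -, -, -, -, -, -, hcard⟩ := G2Odd.centralizer_std (F := ZMod 5) hodd
  rw [ZMod.card] at hcard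
  obtain ⟨z, hz, hzv⟩ : ∃ z : ↥(chevG2.group (ZMod 5)),
      MulAut.conj (⟨c, hc⟩ : ↥(chevG2.group (ZMod 5))) (e h) = z ∧
        (z : GL chevG2.Idx (ZMod 5)) = G2Odd.zI := by
    refine ⟨_, rfl, ?_⟩
    simp only [MulAut.conj_apply, Subgroup.coe_mul, Subgroup.coe_inv]
    exact hcz
  have h1 : Nat.card (Subgroup.centralizer ({z} : Set ↥(chevG2.group (ZMod 5)))) = 14400 := by
    rw [show (14400 : ℕ) = Nat.card C by rw [hcard]; norm_num]
    refine Nat.card_congr ⟨fun x => ⟨x.1.1, ?_⟩, fun x => ⟨⟨x.1, (hC.le x.2).1⟩, ?_⟩,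
      fun x => rfl, fun x => rfl⟩
    · rw [hC]
      refine ⟨x.1.2, ?_⟩
      show x.1.1 ∈ Subgroup.centralizer _
      rw [Subgroup.mem_centralizer_singleton_iff, ← hzv]
      exact congrArg Subtype.val (Subgroup.mem_centralizer_singleton_iff.1 x.2)
    · rw [Subgroup.mem_centralizer_singleton_iff]
      apply Subtype.ext
      show x.1 * (z : GL chevG2.Idx (ZMod 5)) = (z : GL chevG2.Idx (ZMod 5)) * x.1
      rw [hzv]
      exact Subgroup.mem_centralizer_singleton_iff.1 (hC.le x.2).2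
  rw [← h1]
  let f : Q ≃* ↥(chevG2.group (ZMod 5)) := e.trans (MulAut.conj ⟨c, hc⟩)
  have hfh : f h = z := hz
  refine Nat.card_congr ⟨fun x => ⟨f x.1, ?_⟩, fun x => ⟨f.symm x.1, ?_⟩,
    fun x => Subtype.ext (f.symm_apply_apply _), fun x => Subtype.ext (f.apply_symm_apply _)⟩
  · rw [Subgroup.mem_centralizer_singleton_iff, ← hfh, ← map_mul, ← map_mul]
    exact congrArg f (Subgroup.mem_centralizer_singleton_iff.1 x.2)
  · rw [Subgroup.mem_centralizer_singleton_iff]
    apply f.injective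
    rw [map_mul, map_mul, f.apply_symm_apply, hfh]
    exact Subgroup.mem_centralizer_singleton_iff.1 x.2

end Cfsg.Agent.LyLocal
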