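import Cfsg.Agent.LyLocal.Cover
import Cfsg.Agent.LyLocal.G2Invol
import Cfsg.Agent.DCoset.FixCount

/-!
# The centraliser bound from the suborbits on the cosets of `G2(5)`
-/

set_option autoImplicit false
set_option maxRecDepth 100000
set_option linter.unusedSectionVars false

namespace Cfsg.Agent.LyLocal

open Cfsg.Agent.LyMat Cfsg.Lie Cfsg.Agent.DCoset

theorem of_a_mem : (PresentedGroup.of Cfsg.Spor.Ly.Gen.a : P) ∈ lyH :=
  Subgroup.mem_map_of_mem _ (Subgroup.subset_closure (Or.inl rfl))

variable [IsSimpleGroup P]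

theorem tt_mem_lyH : tt ∈ lyH := by
  have h : tt = elW [0, 0, 0, 0] := by
    rw [tt, ← elW_one]
    have hd : defWords.getD 11 [] = [0, 0, 0, 0] := by decide
    exact hd ▸ eq_of_same def21
  rw [h]
  refine list_prod_mem fun y hy => ?_
  simp only [List.map_cons, List.map_nil, List.mem_cons, List.not_mem_nil, or_false, or_self] at hy
  subst hy
  show base 0 ∈ lyH
  exact of_a_mem

/-- The bound, from suborbits with bounded numbers of involutions in their stabilisers. -/
theorem centralizer_lt {Q : Type*} [Group Q] [Finite P] (ι : Q →* P) (hι : Function.Injective ι)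
    (hr : ι.range = lyH) (eQ : Q ≃* ↥(chevG2.group (ZMod 5))) {M : Type*} [Fintype M]
    (pt : M → P ⧸ ι.range) (label : P ⧸ ι.range → M)
    (hlab : ∀ q z, label (ι q • z) = label z) (hcov : ∀ z, ∃ q : Q, z = ι q • pt (label z))
    (hsurj : ∀ m, label (pt m) = m)
    (b sz : M → ℕ) (hsz : ∀ m, Nat.card ↥((MulAction.stabilizer P (pt m)).comap ι) = sz m)
    (hb : ∀ m, Nat.card {s : Q // s ∈ (MulAction.stabilizer P (pt m)).comap ι ∧ orderOf s = 2} ≤ b m)
    (hlt : 14400 * ∑ m, 14400 * b m / sz m < 3 * 39916800) :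
    Nat.card (Subgroup.centralizer ({tt} : Set P)) < 3 * 39916800 := by
  classical
  have : Finite Q := Finite.of_injective ι hι
  have : Finite (P ⧸ ι.range) := inferInstance
  obtain ⟨h, hh⟩ : ∃ h : Q, ι h = tt := by
    have := tt_mem_lyH
    rw [← hr] at this
    exact this
  have ho : orderOf h = 2 := by rw [← orderOf_injective ι hι, hh, orderOf_tt]
  obtain ⟨hc, -⟩ := g2_invol eQ h ho
  letI : MulAction Q (P ⧸ ι.range) := MulAction.compHom _ ι
  have hsmul : ∀ (q : Q) (z : P ⧸ ι.range), q • z = ι q • z := fun q z => rfl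
  have hcov' : ∀ z, z ∈ MulAction.orbit Q (pt (label z)) := fun z => by
    obtain ⟨q, hq⟩ := hcov z
    exact ⟨q, hq.symm⟩
  have hfix := FixCount.card_fixed_sum pt label (fun q z => hlab q z) hcov' hsurj h
  have hper : ∀ m, Nat.card {z : P ⧸ ι.range // z ∈ MulAction.orbit Q (pt m) ∧ h • z = z} ≤
      14400 * b m / sz m := by
    intro m
    have hst : MulAction.stabilizer Q (pt m) = (MulAction.stabilizer P (pt m)).comap ι := rfl
    have h1 := FixCount.card_fixed_mul (pt m) h
    rw [hst, hsz, hc] at h1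
    have hpos : 0 < sz m := by rw [← hsz]; exact Nat.card_pos
    rw [Nat.le_div_iff_mul_le hpos, h1]
    refine Nat.mul_le_mul_left _ (le_trans ?_ (hb m))
    refine Nat.card_le_card_of_injective (fun s => ⟨s.1, s.2.1, ?_⟩) fun a c hac =>
      Subtype.ext (congrArg Subtype.val hac :)
    obtain ⟨c, hc'⟩ := isConj_iff.1 s.2.2
    rw [← hc']
    exact ((SemiconjBy.conj_mk c h).orderOf_eq).symm.trans ho
  have hbase : tt • (QuotientGroup.mk (1 : P) : P ⧸ ι.range) = QuotientGroup.mk 1 := by
    rw [MulAction.Quotient.smul_mk, smul_eq_mul, mul_one, QuotientGroup.eq, mul_one]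
    exact inv_mem (hr ▸ tt_mem_lyH)
  have h2 := FixCount.card_centralizer_le tt (QuotientGroup.mk (1 : P) : P ⧸ ι.range) hbase
  have h3 : Nat.card ↥(Subgroup.centralizer ({tt} : Set P) ⊓
      MulAction.stabilizer P (QuotientGroup.mk (1 : P) : P ⧸ ι.range)) ≤ 14400 := by
    rw [← hc]
    refine le_trans ?_ (le_of_eq (Subgroup.card_map_of_injective (f := ι) hι))
    refine Subgroup.card_le_of_le fun x hx => ?_
    have hxr : x ∈ ι.range := by
      have h4 := MulAction.mem_stabilizer_iff.1 hx.2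
      rw [MulAction.Quotient.smul_mk, smul_eq_mul, mul_one, QuotientGroup.eq] at h4
      simpa using h4
    obtain ⟨q, rfl⟩ := hxr
    refine ⟨q, Subgroup.mem_centralizer_singleton_iff.2 (hι ?_), rfl⟩
    rw [map_mul, map_mul, hh]
    exact Subgroup.mem_centralizer_singleton_iff.1 hx.1
  have h4 : Nat.card {z : P ⧸ ι.range // tt • z = z} ≤ ∑ m, 14400 * b m / sz m := by
    have e : Nat.card {z : P ⧸ ι.range // tt • z = z} = Nat.card {z : P ⧸ ι.range // h • z = z} := by
      refine Nat.card_congr (Equiv.subtypeEquivRight fun z => ?_)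
      rw [hsmul, hh]
    rw [e, hfix]
    exact Finset.sum_le_sum fun m _ => hper m
  exact lt_of_le_of_lt (le_trans h2 (Nat.mul_le_mul h3 h4)) hlt

end Cfsg.Agent.LyLocal
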