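import Cfsg.Agent.LyLocal.Invol
import Cfsg.Agent.LyThree.Node4Data
import Cfsg.Agent.DCoset.Ly.Table

/-! The involutions of the stabiliser of node 4, counted. -/

set_option Elab.async false
set_option maxRecDepth 100000

namespace Cfsg.Agent.LyLocal.Invol

open Cfsg.Agent.DCoset Cfsg.Agent.CosetCert Cfsg.Agent.LyThree

theorem n4_part_0 : partSum n4T Ly.tab 3 0 1 = 20 := by
  decide +kernel

theorem n4_part_1 : partSum n4T Ly.tab 3 1 1 = 15 := by
  decide +kernel

theorem n4_part_2 : partSum n4T Ly.tab 3 2 1 = 43 := by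
  decide +kernel

theorem n4_part_3 : partSum n4T Ly.tab 3 3 1 = 27 := by
  decide +kernel

theorem n4_cnt : cnt n4T Ly.tab 4 Ly.tab.base [] = 105 :=
  cnt_eq_partSum (n := 4) (by decide +kernel) (partSum_append (partSum_append (partSum_append n4_part_0 n4_part_1) n4_part_2) n4_part_3)

end Cfsg.Agent.LyLocal.Invol
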