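import Cfsg.Agent.LyLocal.InvolNode2
import Cfsg.Agent.LyLocal.InvolNode3
import Cfsg.Agent.LyLocal.InvolNode4
import Cfsg.Agent.LyLocal.Bound
import Cfsg.Agent.LyThree.Main

/-!
The centraliser of the involution is small, given the orbits of `G2(5)` on its cosets.
-/

set_option autoImplicit false
set_option maxRecDepth 100000

namespace Cfsg.Agent.LyLocal

open Cfsg.Agent.DCoset Cfsg.Agent.CosetCert Cfsg.Agent.LyThree

/-- The involutions allowed in the stabilisers. -/
def invBound (m : Fin 5) : Nat := ![406875, 101500, 63, 211, 105] m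

theorem bound_sum : 14400 * ∑ m, 14400 * invBound m / nn m < 3 * 39916800 := by
  decide +kernel

theorem card_invol_Q : Nat.card {s : LyMat.Q // orderOf s = 2} ≤ 406875 := by
  classical
  have : Finite LyMat.Q := LyMat.q_card.1
  obtain ⟨eQ⟩ := LyMat.q_iso
  rcases isEmpty_or_nonempty {s : LyMat.Q // orderOf s = 2} with he | ⟨⟨h, hh⟩⟩
  · rw [Nat.card_of_isEmpty]; exact Nat.zero_le _
  obtain ⟨hc, hconj⟩ := g2_invol eQ h hh
  set C := Subgroup.centralizer ({h} : Set LyMat.Q)
  have hm := C.card_mul_index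
  rw [hc, LyThree.q_card] at hm
  have hi : C.index = 406875 := by omega
  rw [← hi, Subgroup.index_eq_card]
  refine Nat.card_le_card_of_surjective (fun q : LyMat.Q ⧸ C => Quotient.liftOn' q
    (fun g => (⟨g * h * g⁻¹, ((SemiconjBy.conj_mk g h).orderOf_eq).symm.trans hh⟩ :
      {s : LyMat.Q // orderOf s = 2})) ?_) ?_
  · intro a b hab
    rw [QuotientGroup.leftRel_apply] at hab
    have h2 : a⁻¹ * b * h = h * (a⁻¹ * b) := Subgroup.mem_centralizer_singleton_iff.1 hab
    apply Subtype.ext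
    show a * h * a⁻¹ = b * h * b⁻¹
    calc a * h * a⁻¹ = a * (h * (a⁻¹ * b)) * b⁻¹ := by group
      _ = a * (a⁻¹ * b * h) * b⁻¹ := by rw [h2]
      _ = b * h * b⁻¹ := by group
  · rintro ⟨s, hs⟩
    obtain ⟨g, rfl⟩ := isConj_iff.1 (hconj s hs)
    exact ⟨QuotientGroup.mk g, rfl⟩

variable [IsSimpleGroup LyLocal.P]

theorem invol_rep (O : Orbits) (m : Fin 5) :
    Nat.card {s : LyMat.Q // s ∈ St (Y m) ∧ orderOf s = 2} ≤ invBound m := by
  have : Finite LyMat.Q := LyMat.q_card.1
  obtain ⟨hR, -⟩ := rep_all O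
  obtain ⟨hn, hc, q, hq, -, htr⟩ := hR m
  fin_cases m
  · exact le_trans (Nat.card_le_card_of_injective
      (fun s => (⟨s.1, s.2.2⟩ : {s : LyMat.Q // orderOf s = 2}))
      fun a b e => Subtype.ext (congrArg Subtype.val e :)) card_invol_Q
  · have hconj : IsConj xQ (q⁻¹ * xQ * q) := isConj_iff.2 ⟨q⁻¹, by rw [inv_inv]⟩
    have h := cent_mul hq hconj hc htr
    rw [hn] at h
    have hy3 : orderOf (q⁻¹ * xQ * q) = 3 := by
      obtain ⟨c, hc⟩ := isConj_iff.1 hconj
      rw [← hc, ← (SemiconjBy.conj_mk c xQ).orderOf_eq, orderOf_xQ]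
    refine le_trans (Invol.card_le_third hq hy3) ?_
    rw [hn]
    change Nat.card _ * 200 = 300000 at h
    show _ + 300000 / 3 ≤ 101500
    omega
  · exact le_trans (Invol.card_le_cnt node2_ok.t_ok _ (node_mem node2_ok n2_eqs)
      (le_of_eq (hn.trans n2_prod.symm)) (show 0 < 4 by norm_num)) (le_of_eq Invol.n2_cnt)
  · exact le_trans (Invol.card_le_cnt node3_ok.t_ok _ (node_mem node3_ok n3_eqs)
      (le_of_eq (hn.trans n3_prod.symm)) (show 0 < 4 by norm_num)) (le_of_eq Invol.n3_cnt)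
  · exact le_trans (Invol.card_le_cnt node4_ok.t_ok _ (node_mem node4_ok n4_eqs)
      (le_of_eq (hn.trans n4_prod.symm)) (show 0 < 4 by norm_num)) (le_of_eq Invol.n4_cnt)

/-- The bound on the centraliser of the involution. -/
theorem centralizer_small [Finite LyLocal.P] (O : Orbits) :
    Nat.card (Subgroup.centralizer ({tt} : Set LyLocal.P)) < 3 * 39916800 := by
  classical
  obtain ⟨hR, hcov⟩ := rep_all O
  obtain ⟨eQ⟩ := LyMat.q_iso
  have hn : ∀ m, Nat.card (St (Y m)) = nn m := fun m => (hR m).1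
  have huniq : ∀ m m' p p', iota p • Y m = iota p' • Y m' → m = m' := fun m m' p p' h => by
    apply nn_inj
    rw [← hn m, ← hn m', ← card_St_smul p (Y m), h, card_St_smul]
  choose lab q hlabq using hcov
  refine centralizer_lt iota iota_injective range_iota eQ Y lab ?_ (fun z => ⟨q z, hlabq z⟩) ?_
    invBound nn hn (invol_rep O) bound_sum
  · intro p z
    refine huniq _ _ (q (iota p • z)) (p * q z) ?_
    rw [← hlabq, map_mul, mul_smul, ← hlabq]
  · intro m
    refine huniq _ _ (q (Y m)) 1 ?_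
    rw [← hlabq, map_one, one_smul]

end Cfsg.Agent.LyLocal
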