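import Cfsg.Agent.LyLocal.Final
import Cfsg.Agent.DCoset.Ly.Cert

/-!
The certificate of the suborbits, as used for the local structure.
-/

set_option autoImplicit false
set_option maxRecDepth 100000

namespace Cfsg.Agent.LyLocal

open Cfsg.Agent.DCoset

/-- The node of an orbit. -/
def node (m : Fin 5) : Nat := ![0, 1, 2, 4, 3] m

theorem node_spec : ∀ m : Fin 5, node m < 5 ∧ DCoset.Ly.cover.idx (node m) = LyThree.idxList m ∧
    (m = 0 → node m = 0) := by
  decide +kernel

/-- The certificate. -/
noncomputable def certData : CertData where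
  D := DCoset.Ly.steps
  C := DCoset.Ly.cover
  steps := DCoset.Ly.steps_ok
  src := DCoset.Ly.node_src
  valid := DCoset.Ly.valid
  sum := DCoset.Ly.idx_sum
  live := rfl
  mem m := ⟨node m, node_spec m⟩

end Cfsg.Agent.LyLocal
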