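import Cfsg.Agent.LyLocal.Same

/-! Kernel checks of the defining words of the letters. -/

set_option autoImplicit false
set_option maxRecDepth 100000
set_option Elab.async false

namespace Cfsg.Agent.LyLocal

open Cfsg.Agent.LyMat Cfsg.Agent.CosetCert

theorem def10 : sameB [10] (defWords.getD 0 []) = true := by decide +kernel

theorem def11 : sameB [11] (defWords.getD 1 []) = true := by decide +kernel

theorem def12 : sameB [12] (defWords.getD 2 []) = true := by decide +kernel

theorem def13 : sameB [13] (defWords.getD 3 []) = true := by decide +kernel

theorem def14 : sameB [14] (defWords.getD 4 []) = true := by decide +kernel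

theorem def15 : sameB [15] (defWords.getD 5 []) = true := by decide +kernel

theorem def16 : sameB [16] (defWords.getD 6 []) = true := by decide +kernel

theorem def17 : sameB [17] (defWords.getD 7 []) = true := by decide +kernel

theorem def18 : sameB [18] (defWords.getD 8 []) = true := by decide +kernel

theorem def19 : sameB [19] (defWords.getD 9 []) = true := by decide +kernel

theorem def20 : sameB [20] (defWords.getD 10 []) = true := by decide +kernel

theorem def21 : sameB [21] (defWords.getD 11 []) = true := by decide +kernel

theorem def22 : sameB [22] (defWords.getD 12 []) = true := by decide +kernel

theorem def23 : sameB [23] (defWords.getD 13 []) = true := by decide +kernel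

theorem def24 : sameB [24] (defWords.getD 14 []) = true := by decide +kernel

theorem def25 : sameB [25] (defWords.getD 15 []) = true := by decide +kernel

theorem def26 : sameB [26] (defWords.getD 16 []) = true := by decide +kernel

theorem def27 : sameB [27] (defWords.getD 17 []) = true := by decide +kernel

end Cfsg.Agent.LyLocal
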