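import Cfsg.Agent.LyMat.Main
import Cfsg.Agent.LyLocal.Checks

/-!
# The named elements of the presented Lyons group

Each letter is an element of the presented group; if the group is simple, equations between
words in the letters are decided in degree 111.
-/

set_option autoImplicit false
set_option maxRecDepth 100000

namespace Cfsg.Agent.LyLocal

open Cfsg.Agent.LyMat Cfsg.Agent.CosetCert Cfsg.Spor

/-- The presented group. -/
abbrev P : Type := PresentedGroup lyRels

/-- One of the ten basic letters. -/
def base (x : Nat) : P :=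
  match x with
  | 0 => PresentedGroup.of Ly.Gen.a
  | 1 => PresentedGroup.of Ly.Gen.b
  | 2 => PresentedGroup.of Ly.Gen.c
  | 3 => PresentedGroup.of Ly.Gen.d
  | 4 => PresentedGroup.of Ly.Gen.z
  | 5 => (PresentedGroup.of Ly.Gen.a)⁻¹
  | 6 => (PresentedGroup.of Ly.Gen.b)⁻¹
  | 7 => (PresentedGroup.of Ly.Gen.c)⁻¹
  | 8 => (PresentedGroup.of Ly.Gen.d)⁻¹
  | 9 => (PresentedGroup.of Ly.Gen.z)⁻¹
  | _ => PresentedGroup.of Ly.Gen.a

/-- A letter, unfolded at most `n` times. -/
def elF : Nat → Nat → P
  | 0, x => base x
  | n + 1, x => if x < 10 then base x else ((defWords.getD (x - 10) []).map (elF n)).prod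

/-- The element of a letter. -/
def el (x : Nat) : P := elF 28 x

/-- The element of a word. -/
def elW (w : List Nat) : P := (w.map el).prod

/-- The value of the representation as a matrix. -/
noncomputable def rep : P →* Matrix (Fin 111) (Fin 111) (ZMod 5) :=
  (Units.coeHom _).comp lyRep

/-- The matrix of a letter. -/
noncomputable def MM (x : Nat) : Matrix (Fin 111) (Fin 111) (ZMod 5) := toMat 111 (rowsOf 111 (mm x))

theorem good_mm_check : ((List.range 28).all fun x => goodC 111 (rowsOf 111 (mm x))) = true := by
  decide +kernel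

theorem good_mm (x : Nat) : Good 111 (rowsOf 111 (mm x)) := by
  by_cases hx : x < 28
  · exact good_of_check (List.all_eq_true.1 good_mm_check x (List.mem_range.2 hx))
  · rw [mm, List.getD_eq_default _ _ (by simp [lmat]; omega)]
    exact good_m111 0

theorem same_spec {w v : List Nat} (h : sameB w v = true) : (w.map MM).prod = (v.map MM).prod := by
  have hI := good_id111
  unfold sameB at h
  rw [mask111_eq] at h
  obtain ⟨P', -, hP, hk⟩ := wordK_spec (by norm_num) mm good_mm w id111
    (fun P => wordK (maskF 111) mm v id111 fun Q => eqB P Q) hI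
  rw [hk] at h
  obtain ⟨Q', -, hQ, hk'⟩ := wordK_spec (by norm_num) mm good_mm v id111 (fun Q => eqB P' Q) hI
  rw [hk'] at h
  rw [toMat_one id111_check, one_mul] at hP hQ
  show (w.map fun x => toMat 111 (rowsOf 111 (mm x))).prod =
    (v.map fun x => toMat 111 (rowsOf 111 (mm x))).prod
  rw [← hP, ← hQ, eqB_eq h]

theorem MM_low : ∀ x < 10, mm x = m111 x := by
  intro x hx
  interval_cases x <;> rfl

theorem MM_eq (x : Nat) (hx : x < 10) : MM x = M111 x := by
  show toMat 111 (rowsOf 111 (mm x)) = toMat 111 (rowsOf 111 (m111 x))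
  rw [MM_low x hx]

theorem rep_of (g : Ly.Gen) :
    rep (PresentedGroup.of g) = Units.val (genImg (unitOf M111 inv111) g) := by
  show Units.val (lyRep (PresentedGroup.of g)) = _
  rw [lyRep, PresentedGroup.toGroup.of]

theorem rep_of_inv (g : Ly.Gen) :
    rep (PresentedGroup.of g)⁻¹ = Units.val (genImg (unitOf M111 inv111) g)⁻¹ := by
  show Units.val (lyRep (PresentedGroup.of g)⁻¹) = _
  rw [map_inv, lyRep, PresentedGroup.toGroup.of]

theorem rep_letter (g : Ly.Gen) (i : Fin 5) (h : expG g = [(i, true)]) :
    rep (PresentedGroup.of g) = M111 i.val ∧ rep (PresentedGroup.of g)⁻¹ = M111 (i.val + 5) := by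
  have h1 : genImg (unitOf M111 inv111) g = unitOf M111 inv111 i := by
    rw [genImg, h]
    simp [FreeGroup.lift_mk]
  rw [rep_of, rep_of_inv, h1]
  exact ⟨rfl, rfl⟩

theorem rep_base (x : Nat) (hx : x < 10) : rep (base x) = MM x := by
  rw [MM_eq x hx]
  interval_cases x
  · exact (rep_letter Ly.Gen.a 0 rfl).1
  · exact (rep_letter Ly.Gen.b 1 rfl).1
  · exact (rep_letter Ly.Gen.c 2 rfl).1
  · exact (rep_letter Ly.Gen.d 3 rfl).1
  · exact (rep_letter Ly.Gen.z 4 rfl).1
  · exact (rep_letter Ly.Gen.a 0 rfl).2
  · exact (rep_letter Ly.Gen.b 1 rfl).2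
  · exact (rep_letter Ly.Gen.c 2 rfl).2
  · exact (rep_letter Ly.Gen.d 3 rfl).2
  · exact (rep_letter Ly.Gen.z 4 rfl).2

theorem defs_lt : ((List.range 18).all fun j => (defWords.getD j []).all fun y => Nat.blt y (10 + j)) = true := by
  decide +kernel

theorem def_same : ∀ j < 18, sameB [10 + j] (defWords.getD j []) = true := by
  intro j hj
  interval_cases j
  exacts [def10, def11, def12, def13, def14, def15, def16, def17, def18, def19, def20, def21, def22,
    def23, def24, def25, def26, def27]

theorem rep_elF : ∀ n x, x < 28 → x < 10 + n → rep (elF n x) = MM x := by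
  intro n
  induction n with
  | zero => intro x _ hx; exact rep_base x (by omega)
  | succ n ih =>
    intro x hx hxn
    rw [elF]
    split_ifs with h
    · exact rep_base x h
    · obtain ⟨j, rfl⟩ : ∃ j, x = 10 + j := ⟨x - 10, by omega⟩
      have hj : j < 18 := by omega
      rw [map_list_prod, List.map_map, show 10 + j - 10 = j by omega]
      have h1 := List.all_eq_true.1 (List.all_eq_true.1 defs_lt j (List.mem_range.2 hj))
      have h2 := same_spec (def_same j hj)
      simp only [List.map_cons, List.map_nil, List.prod_cons, List.prod_nil, mul_one] at h2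
      rw [h2]
      refine congrArg List.prod (List.map_congr_left fun y hy => ?_)
      have := Nat.le_of_ble_eq_true (h1 y hy)
      exact ih y (by omega) (by omega)

theorem rep_elW (w : List Nat) (hw : w.all (fun x => Nat.blt x 28) = true) :
    rep (elW w) = (w.map MM).prod := by
  rw [elW, map_list_prod, List.map_map]
  refine congrArg List.prod (List.map_congr_left fun y hy => ?_)
  have := Nat.le_of_ble_eq_true (List.all_eq_true.1 hw y hy)
  exact rep_elF 28 y (by omega) (by omega)

variable [IsSimpleGroup P]

theorem rep_injective : Function.Injective rep := by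
  have h : Function.Injective lyRep := by
    rcases (lyRep).normal_ker.eq_bot_or_eq_top with h | h
    · exact (MonoidHom.ker_eq_bot_iff _).1 h
    · exfalso
      have h1 : lyRep (PresentedGroup.of Ly.Gen.a) = 1 := MonoidHom.mem_ker.1 (h ▸ Subgroup.mem_top _)
      rw [lyRep, PresentedGroup.toGroup.of] at h1
      have h2 := congrArg Units.val h1
      rw [Units.val_one, ← toMat_one id111_check] at h2
      rw [coe_genImg_a, M111_zero] at h2
      obtain ⟨j, hj, hne⟩ := List.any_eq_true.1 lm0_witness
      have hj' := List.mem_range.1 hj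
      have e : toMat 111 (rowsOf 111 lm0) ⟨0, by norm_num⟩ ⟨j, hj'⟩ =
          toMat 111 id111 ⟨0, by norm_num⟩ ⟨j, hj'⟩ := by rw [h2]
      simp only [toMat, Matrix.of_apply, ZMod.natCast_eq_natCast_iff'] at e
      rw [e, Nat.beq_refl] at hne
      simp at hne
  exact Units.val_injective.comp h

/-- Equations checked in degree 111. -/
theorem eq_of_same {w v : List Nat} (h : sameB w v = true)
    (hw : w.all (fun x => Nat.blt x 28) = true := by decide)
    (hv : v.all (fun x => Nat.blt x 28) = true := by decide) : elW w = elW v :=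
  rep_injective (by rw [rep_elW w hw, rep_elW v hv, same_spec h])

end Cfsg.Agent.LyLocal
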