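import Cfsg.Agent.LyLocal.Same

/-! Kernel checks of the relations between the letters. -/

set_option autoImplicit false
set_option maxRecDepth 100000
set_option Elab.async false

namespace Cfsg.Agent.LyLocal

open Cfsg.Agent.LyMat Cfsg.Agent.CosetCert

theorem cube0 : sameB [12, 12, 12] [] = true := by decide +kernel

theorem comm0 : sameB [21, 12] [12, 21] = true := by decide +kernel

theorem cube1 : sameB [13, 13, 13] [] = true := by decide +kernel

theorem comm1 : sameB [21, 13] [13, 21] = true := by decide +kernel

theorem cube2 : sameB [14, 14, 14] [] = true := by decide +kernel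

theorem comm2 : sameB [21, 14] [14, 21] = true := by decide +kernel

theorem cube3 : sameB [15, 15, 15] [] = true := by decide +kernel

theorem comm3 : sameB [21, 15] [15, 21] = true := by decide +kernel

theorem cube4 : sameB [16, 16, 16] [] = true := by decide +kernel

theorem comm4 : sameB [21, 16] [16, 21] = true := by decide +kernel

theorem cube5 : sameB [17, 17, 17] [] = true := by decide +kernel

theorem comm5 : sameB [21, 17] [17, 21] = true := by decide +kernel

theorem cube6 : sameB [18, 18, 18] [] = true := by decide +kernel

theorem comm6 : sameB [21, 18] [18, 21] = true := by decide +kernel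

theorem cube7 : sameB [19, 19, 19] [] = true := by decide +kernel

theorem comm7 : sameB [21, 19] [19, 21] = true := by decide +kernel

theorem cube8 : sameB [20, 20, 20] [] = true := by decide +kernel

theorem comm8 : sameB [21, 20] [20, 21] = true := by decide +kernel

theorem sq0_1 : sameB [12, 13, 12, 13] [21] = true := by decide +kernel

theorem sq0_2 : sameB [12, 14, 12, 14] [21] = true := by decide +kernel

theorem sq0_3 : sameB [12, 15, 12, 15] [21] = true := by decide +kernel

theorem sq0_4 : sameB [12, 16, 12, 16] [21] = true := by decide +kernel

theorem sq0_5 : sameB [12, 17, 12, 17] [21] = true := by decide +kernel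

theorem sq0_6 : sameB [12, 18, 12, 18] [21] = true := by decide +kernel

theorem sq0_7 : sameB [12, 19, 12, 19] [21] = true := by decide +kernel

theorem sq0_8 : sameB [12, 20, 12, 20] [21] = true := by decide +kernel

theorem sq1_2 : sameB [13, 14, 13, 14] [21] = true := by decide +kernel

theorem sq1_3 : sameB [13, 15, 13, 15] [21] = true := by decide +kernel

theorem sq1_4 : sameB [13, 16, 13, 16] [21] = true := by decide +kernel

theorem sq1_5 : sameB [13, 17, 13, 17] [21] = true := by decide +kernel

theorem sq1_6 : sameB [13, 18, 13, 18] [21] = true := by decide +kernel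

theorem sq1_7 : sameB [13, 19, 13, 19] [21] = true := by decide +kernel

theorem sq1_8 : sameB [13, 20, 13, 20] [21] = true := by decide +kernel

theorem sq2_3 : sameB [14, 15, 14, 15] [21] = true := by decide +kernel

theorem sq2_4 : sameB [14, 16, 14, 16] [21] = true := by decide +kernel

theorem sq2_5 : sameB [14, 17, 14, 17] [21] = true := by decide +kernel

theorem sq2_6 : sameB [14, 18, 14, 18] [21] = true := by decide +kernel

theorem sq2_7 : sameB [14, 19, 14, 19] [21] = true := by decide +kernel

theorem sq2_8 : sameB [14, 20, 14, 20] [21] = true := by decide +kernel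

theorem sq3_4 : sameB [15, 16, 15, 16] [21] = true := by decide +kernel

theorem sq3_5 : sameB [15, 17, 15, 17] [21] = true := by decide +kernel

theorem sq3_6 : sameB [15, 18, 15, 18] [21] = true := by decide +kernel

theorem sq3_7 : sameB [15, 19, 15, 19] [21] = true := by decide +kernel

theorem sq3_8 : sameB [15, 20, 15, 20] [21] = true := by decide +kernel

theorem sq4_5 : sameB [16, 17, 16, 17] [21] = true := by decide +kernel

theorem sq4_6 : sameB [16, 18, 16, 18] [21] = true := by decide +kernel

theorem sq4_7 : sameB [16, 19, 16, 19] [21] = true := by decide +kernel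

theorem sq4_8 : sameB [16, 20, 16, 20] [21] = true := by decide +kernel

theorem sq5_6 : sameB [17, 18, 17, 18] [21] = true := by decide +kernel

theorem sq5_7 : sameB [17, 19, 17, 19] [21] = true := by decide +kernel

theorem sq5_8 : sameB [17, 20, 17, 20] [21] = true := by decide +kernel

theorem sq6_7 : sameB [18, 19, 18, 19] [21] = true := by decide +kernel

theorem sq6_8 : sameB [18, 20, 18, 20] [21] = true := by decide +kernel

theorem sq7_8 : sameB [19, 20, 19, 20] [21] = true := by decide +kernel

theorem tSq : sameB [21, 21] [] = true := by decide +kernel

theorem wSq : sameB [22, 22] [] = true := by decide +kernel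

theorem gConj : sameB [24, 21] [22, 24] = true := by decide +kernel

theorem dConj : sameB [15, 14, 22] [22, 21, 15, 14] = true := by decide +kernel

theorem sgSq0 : sameB [25, 25] [] = true := by decide +kernel

theorem sgSq1 : sameB [26, 26] [] = true := by decide +kernel

theorem sgSq2 : sameB [27, 27] [] = true := by decide +kernel

theorem tInSylow : sameB [26, 25, 26, 25, 26, 25, 26, 25] [21] = true := by decide +kernel

theorem centreWit : sameB [25, 26, 25, 27, 25, 27, 26, 27, 25, 27, 25] [21, 25, 25, 26, 25, 27, 25, 27, 26, 27, 25, 27] = true := by decide +kernel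

end Cfsg.Agent.LyLocal
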