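import Cfsg.Agent.LyLocal.AltCover
import Cfsg.Agent.LyLocal.Model
import Cfsg.Agent.LyLocal.Rels
import Cfsg.Prelude.Def_Sporadic

/-!
# A double cover of the alternating group of degree 11 centralising an involution
-/

set_option autoImplicit false
set_option maxRecDepth 100000
set_option linter.unusedSectionVars false

namespace Cfsg.Agent.LyLocal

open Cfsg.Agent.LyMat Cfsg.Agent.ShortPres

variable [IsSimpleGroup P]

/-- The involution. -/
def tt : P := el 21

/-- A lifted Carmichael generator. -/
def xx (i : Fin 11) : P := el (10 + i.val)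

theorem elW_one (x : Nat) : elW [x] = el x := by simp [elW]

theorem tt_sq : tt * tt = 1 := by simpa [elW, tt] using eq_of_same tSq

theorem xx_cube : ∀ i : ℕ, i < 9 → el (12 + i) ^ 3 = 1 := by
  intro i hi
  interval_cases i
  · simpa [elW, pow_succ, mul_assoc] using eq_of_same cube0
  · simpa [elW, pow_succ, mul_assoc] using eq_of_same cube1
  · simpa [elW, pow_succ, mul_assoc] using eq_of_same cube2
  · simpa [elW, pow_succ, mul_assoc] using eq_of_same cube3
  · simpa [elW, pow_succ, mul_assoc] using eq_of_same cube4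
  · simpa [elW, pow_succ, mul_assoc] using eq_of_same cube5
  · simpa [elW, pow_succ, mul_assoc] using eq_of_same cube6
  · simpa [elW, pow_succ, mul_assoc] using eq_of_same cube7
  · simpa [elW, pow_succ, mul_assoc] using eq_of_same cube8

theorem xx_comm : ∀ i : ℕ, i < 9 → Commute tt (el (12 + i)) := by
  intro i hi
  interval_cases i
  · simpa [elW, tt, Commute, SemiconjBy] using eq_of_same comm0
  · simpa [elW, tt, Commute, SemiconjBy] using eq_of_same comm1
  · simpa [elW, tt, Commute, SemiconjBy] using eq_of_same comm2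
  · simpa [elW, tt, Commute, SemiconjBy] using eq_of_same comm3
  · simpa [elW, tt, Commute, SemiconjBy] using eq_of_same comm4
  · simpa [elW, tt, Commute, SemiconjBy] using eq_of_same comm5
  · simpa [elW, tt, Commute, SemiconjBy] using eq_of_same comm6
  · simpa [elW, tt, Commute, SemiconjBy] using eq_of_same comm7
  · simpa [elW, tt, Commute, SemiconjBy] using eq_of_same comm8

theorem xx_sq_lt : ∀ i j : ℕ, i < j → j < 9 → (el (12 + i) * el (12 + j)) ^ 2 = tt := by
  intro i j hij hj
  interval_cases j <;> interval_cases i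
  · simpa [elW, tt, pow_two, mul_assoc] using eq_of_same sq0_1
  · simpa [elW, tt, pow_two, mul_assoc] using eq_of_same sq0_2
  · simpa [elW, tt, pow_two, mul_assoc] using eq_of_same sq1_2
  · simpa [elW, tt, pow_two, mul_assoc] using eq_of_same sq0_3
  · simpa [elW, tt, pow_two, mul_assoc] using eq_of_same sq1_3
  · simpa [elW, tt, pow_two, mul_assoc] using eq_of_same sq2_3
  · simpa [elW, tt, pow_two, mul_assoc] using eq_of_same sq0_4
  · simpa [elW, tt, pow_two, mul_assoc] using eq_of_same sq1_4
  · simpa [elW, tt, pow_two, mul_assoc] using eq_of_same sq2_4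
  · simpa [elW, tt, pow_two, mul_assoc] using eq_of_same sq3_4
  · simpa [elW, tt, pow_two, mul_assoc] using eq_of_same sq0_5
  · simpa [elW, tt, pow_two, mul_assoc] using eq_of_same sq1_5
  · simpa [elW, tt, pow_two, mul_assoc] using eq_of_same sq2_5
  · simpa [elW, tt, pow_two, mul_assoc] using eq_of_same sq3_5
  · simpa [elW, tt, pow_two, mul_assoc] using eq_of_same sq4_5
  · simpa [elW, tt, pow_two, mul_assoc] using eq_of_same sq0_6
  · simpa [elW, tt, pow_two, mul_assoc] using eq_of_same sq1_6
  · simpa [elW, tt, pow_two, mul_assoc] using eq_of_same sq2_6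
  · simpa [elW, tt, pow_two, mul_assoc] using eq_of_same sq3_6
  · simpa [elW, tt, pow_two, mul_assoc] using eq_of_same sq4_6
  · simpa [elW, tt, pow_two, mul_assoc] using eq_of_same sq5_6
  · simpa [elW, tt, pow_two, mul_assoc] using eq_of_same sq0_7
  · simpa [elW, tt, pow_two, mul_assoc] using eq_of_same sq1_7
  · simpa [elW, tt, pow_two, mul_assoc] using eq_of_same sq2_7
  · simpa [elW, tt, pow_two, mul_assoc] using eq_of_same sq3_7
  · simpa [elW, tt, pow_two, mul_assoc] using eq_of_same sq4_7
  · simpa [elW, tt, pow_two, mul_assoc] using eq_of_same sq5_7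
  · simpa [elW, tt, pow_two, mul_assoc] using eq_of_same sq6_7
  · simpa [elW, tt, pow_two, mul_assoc] using eq_of_same sq0_8
  · simpa [elW, tt, pow_two, mul_assoc] using eq_of_same sq1_8
  · simpa [elW, tt, pow_two, mul_assoc] using eq_of_same sq2_8
  · simpa [elW, tt, pow_two, mul_assoc] using eq_of_same sq3_8
  · simpa [elW, tt, pow_two, mul_assoc] using eq_of_same sq4_8
  · simpa [elW, tt, pow_two, mul_assoc] using eq_of_same sq5_8
  · simpa [elW, tt, pow_two, mul_assoc] using eq_of_same sq6_8
  · simpa [elW, tt, pow_two, mul_assoc] using eq_of_same sq7_8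

theorem xx_sq (i j : ℕ) (hi : i < 9) (hj : j < 9) (hij : i ≠ j) :
    (el (12 + i) * el (12 + j)) ^ 2 = tt := by
  rcases lt_or_gt_of_ne hij with h | h
  · exact xx_sq_lt i j h hj
  · have e := xx_sq_lt j i h hi
    calc (el (12 + i) * el (12 + j)) ^ 2
        = el (12 + i) * (el (12 + j) * el (12 + i)) ^ 2 * (el (12 + i))⁻¹ := by
          rw [pow_two, pow_two]; group
      _ = tt := by rw [e, (xx_comm i hi).symm.eq, mul_inv_cancel_right]

theorem tt_witness : ((List.range 111).any fun r => (List.range 111).any fun j =>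
    !(Nat.beq (fieldN ((rowsOf 111 (mm 21)).getD r 0) j % 5) (fieldN (id111.getD r 0) j % 5))) = true := by
  decide +kernel

theorem tt_ne : tt ≠ 1 := by
  intro h
  have h1 := congrArg rep h
  rw [map_one, tt, el, rep_elF 28 21 (by norm_num) (by norm_num), ← toMat_one id111_check] at h1
  obtain ⟨r, hr, hr2⟩ := List.any_eq_true.1 tt_witness
  obtain ⟨j, hj, hne⟩ := List.any_eq_true.1 hr2
  have e := congrFun (congrFun h1 ⟨r, List.mem_range.1 hr⟩) ⟨j, List.mem_range.1 hj⟩
  simp only [MM, toMat, Matrix.of_apply, ZMod.natCast_eq_natCast_iff'] at e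
  rw [e, Nat.beq_refl] at hne
  simp at hne

theorem orderOf_tt : orderOf tt = 2 :=
  orderOf_eq_prime (by rw [pow_two, tt_sq]) tt_ne

theorem two_le_rest (x : Rest (0 : Fin 11) 1) : 2 ≤ x.1.val := by
  have h0 := x.2.1
  have h1 := x.2.2
  simp only [ne_eq, Fin.ext_iff, Fin.val_zero, Fin.val_one] at h0 h1
  omega

/-- The lifts. -/
def lifts : Lifts (0 : Fin 11) 1 P where
  E x := xx x.1
  t := tt
  t_ne := tt_ne
  t_sq := tt_sq
  t_comm x := by
    have h := two_le_rest x
    have := x.1.isLt
    show Commute tt (el (10 + x.1.val))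
    rw [show 10 + x.1.val = 12 + (x.1.val - 2) by omega]
    exact xx_comm _ (by omega)
  cube x := by
    have h := two_le_rest x
    have := x.1.isLt
    show el (10 + x.1.val) ^ 3 = 1
    rw [show 10 + x.1.val = 12 + (x.1.val - 2) by omega]
    exact xx_cube _ (by omega)
  prod_sq x y hxy := by
    have h := two_le_rest x
    have := x.1.isLt
    have h' := two_le_rest y
    have := y.1.isLt
    show (el (10 + x.1.val) * el (10 + y.1.val)) ^ 2 = tt
    rw [show 10 + x.1.val = 12 + (x.1.val - 2) by omega,
      show 10 + y.1.val = 12 + (y.1.val - 2) by omega]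
    exact xx_sq _ _ (by omega) (by omega) fun e => hxy (Subtype.ext (Fin.ext (by omega)))

/-- The double cover. -/
abbrev DD : Subgroup P := lifts.grp

theorem eleven_ne : (0 : Fin 11) ≠ 1 := by decide

theorem five_le : 5 ≤ Fintype.card (Fin 11) := by simp

theorem card_DD : Nat.card DD = 39916800 := by
  have : Nontrivial (Fin 11) := inferInstance
  rw [lifts.card_grp five_le eleven_ne, two_mul_card_alt, Fintype.card_fin]
  decide

theorem DD_le : DD ≤ Subgroup.centralizer ({tt} : Set P) := fun g hg => by
  rw [Subgroup.mem_centralizer_singleton_iff]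
  exact lifts.t_central hg

/-- The centraliser is the double cover as soon as it is less than three times as big. -/
theorem centralizer_eq (hcard : Nat.card P = 51765179004000000)
    (hb : Nat.card (Subgroup.centralizer ({tt} : Set P)) < 3 * 39916800) :
    Subgroup.centralizer ({tt} : Set P) = DD := by
  have : Finite P := Nat.finite_of_card_ne_zero (by omega)
  obtain ⟨k, hk⟩ := Subgroup.card_dvd_of_le DD_le
  have h1 : Nat.card (Subgroup.centralizer ({tt} : Set P)) ∣ 51765179004000000 :=
    hcard ▸ Subgroup.card_subgroup_dvd_card _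
  rw [card_DD] at hk
  have hk3 : k < 3 := by
    rw [hk] at hb
    omega
  have hk0 : k ≠ 0 := fun h => by
    have := Nat.card_pos (α := Subgroup.centralizer ({tt} : Set P))
    rw [hk, h] at this
    omega
  refine (Subgroup.eq_of_le_of_card_ge DD_le ?_).symm
  rw [card_DD, hk]
  rw [hk] at h1
  interval_cases k
  all_goals omega

end Cfsg.Agent.LyLocal
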