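import Cfsg.Agent.LyLocal.Cover
import Cfsg.Prelude.Def_Exceptional

/-!
# The permutation group on the cosets of the subgroup of type `G2(5)`
-/

set_option autoImplicit false
set_option maxRecDepth 100000
set_option linter.unusedSectionVars false

namespace Cfsg.Agent.LyLocal

open Cfsg.Agent.LyMat Cfsg.Lie

theorem card_chevG2 : Nat.card ↥(chevG2.group (ZMod 5)) = 5859000000 := by
  have h := Chev.g2_card_group (ZMod 5)
  simp [ZMod.card, Fin.prod_univ_two] at h
  omega

/-- Transport of the notion along isomorphisms. -/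
theorem nonsplit_congr {A B : Type*} [Group A] [Group B] (e : A ≃* B) {K : Type*} [Group K]
    (h : Cfsg.IsNonsplitDoubleCover A K) : Cfsg.IsNonsplitDoubleCover B K := by
  obtain ⟨h1, ⟨f⟩, h3⟩ := h
  have hc : (Subgroup.center A).map e.toMonoidHom = Subgroup.center B := by
    ext b
    obtain ⟨a, rfl⟩ := e.surjective b
    constructor
    · rintro ⟨y, hy, hye⟩
      rw [e.injective hye] at hy
      rw [Subgroup.mem_center_iff]
      intro c
      obtain ⟨d, rfl⟩ := e.surjective c
      rw [← map_mul, ← map_mul, Subgroup.mem_center_iff.1 hy d]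
    · intro hb
      refine ⟨a, Subgroup.mem_center_iff.2 fun d => e.injective ?_, rfl⟩
      rw [map_mul, map_mul]
      exact Subgroup.mem_center_iff.1 hb (e d)
  refine ⟨?_, ⟨(QuotientGroup.congr _ _ e hc).symm.trans f⟩, fun L hL => ?_⟩
  · rw [← hc, Subgroup.card_map_of_injective e.injective]
    exact h1
  · refine h3 (L.comap e.toMonoidHom) ?_
    rw [Subgroup.isComplement'_def] at hL ⊢
    refine ⟨fun p q hpq => ?_, fun a => ?_⟩
    · have hm : ∀ x : Subgroup.center A, e (x : A) ∈ Subgroup.center B :=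
        fun x => hc ▸ Subgroup.mem_map_of_mem _ x.2
      have := @hL.1 (⟨e p.1, hm p.1⟩, ⟨e p.2, p.2.2⟩) (⟨e q.1, hm q.1⟩, ⟨e q.2, q.2.2⟩)
        (by show e _ * e _ = e _ * e _; rw [← map_mul, ← map_mul]; exact congrArg e hpq)
      exact Prod.ext (Subtype.ext (e.injective (congrArg Subtype.val (congrArg Prod.fst this))))
        (Subtype.ext (e.injective (congrArg Subtype.val (congrArg Prod.snd this))))
    · obtain ⟨⟨⟨z, hz⟩, ⟨l, hl⟩⟩, hzl : z * l = e a⟩ := hL.2 (e a)
      obtain ⟨y, hy, rfl⟩ := (hc ▸ hz : z ∈ (Subgroup.center A).map e.toMonoidHom)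
      obtain ⟨m, rfl⟩ := e.surjective l
      refine ⟨(⟨y, hy⟩, ⟨m, hl⟩), e.injective ?_⟩
      show e (y * m) = e a
      rw [map_mul]
      exact hzl

/-- Existence as a permutation group, from the order, the index and the centraliser bound. -/
theorem exists_perm [IsSimpleGroup P] {n : ℕ} [NeZero n] (h1n : 1 < n)
    (hcard : Nat.card P = 51765179004000000) (hind : lyH.index = n)
    (hb : Nat.card (Subgroup.centralizer ({tt} : Set P)) < 3 * 39916800) :
    ∃ H : Subgroup (Equiv.Perm (Fin n)), Cfsg.IsLy H ∧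
      MulAction.IsPretransitive H (Fin n) ∧
      Cfsg.IsG2 (MulAction.stabilizer H (0 : Fin n)) ∧
      ∃ t : H, orderOf t = 2 ∧ Cfsg.IsNonsplitDoubleCover (Subgroup.centralizer ({t} : Set H))
        (alternatingGroup (Fin 11)) := by
  classical
  have : Finite P := Nat.finite_of_card_ne_zero (by omega)
  have hQ : Nat.card (P ⧸ lyH) = n := hind
  have e0 : P ⧸ lyH ≃ Fin n := Finite.equivFinOfCardEq hQ
  let e : P ⧸ lyH ≃ Fin n := e0.trans (Equiv.swap (e0 (QuotientGroup.mk 1)) 0)
  have he : e (QuotientGroup.mk 1) = 0 := by simp [e]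
  let φ : P →* Equiv.Perm (Fin n) :=
    e.permCongrHom.toMonoidHom.comp (MulAction.toPermHom P (P ⧸ lyH))
  have hφ : ∀ g x, φ g (e x) = e (g • x) := fun g x => by
    simp [φ, Equiv.permCongrHom, Equiv.permCongr_apply]
  have hinj : Function.Injective φ := by
    rcases φ.normal_ker.eq_bot_or_eq_top with h | h
    · exact (MonoidHom.ker_eq_bot_iff φ).1 h
    · exfalso
      have htop : lyH = ⊤ := by
        rw [eq_top_iff]
        intro g _
        have h1 : φ g = 1 := MonoidHom.mem_ker.1 (h ▸ Subgroup.mem_top g)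
        have h2 := hφ g (QuotientGroup.mk 1)
        rw [h1, Equiv.Perm.one_apply] at h2
        have h3 := e.injective h2
        rw [MulAction.Quotient.smul_mk, smul_eq_mul, mul_one, QuotientGroup.eq, inv_one, one_mul] at h3
        exact h3
      rw [htop, Subgroup.index_top] at hind
      omega
  let eP : P ≃* φ.range := MonoidHom.ofInjective hinj
  have hstab : (MulAction.stabilizer φ.range (0 : Fin n)).comap eP.toMonoidHom = lyH := by
    ext g
    show (φ g) 0 = 0 ↔ _
    rw [← he, hφ, e.apply_eq_iff_eq, MulAction.Quotient.smul_mk, smul_eq_mul, mul_one,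
      QuotientGroup.eq]
    simp
  have eS : ↥lyH ≃* ↥(MulAction.stabilizer φ.range (0 : Fin n)) :=
    ((eP.subgroupMap lyH)).trans (MulEquiv.subgroupCongr (by
      rw [← hstab]
      exact Subgroup.map_comap_eq_self_of_surjective (f := eP.toMonoidHom) eP.surjective _))
  refine ⟨φ.range, ⟨eP.symm.isSimpleGroup, by rw [← Nat.card_congr eP.toEquiv, hcard]⟩, ⟨fun x y => ?_⟩,
    ⟨?_, 5, ⟨5, 1, Nat.prime_five.prime, one_pos, by norm_num⟩, by norm_num, ?_⟩, ⟨eP tt, ?_, ?_⟩⟩
  · obtain ⟨a, rfl⟩ := e.surjective x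
    obtain ⟨b, rfl⟩ := e.surjective y
    obtain ⟨g, hg⟩ := MulAction.exists_smul_eq P a b
    exact ⟨⟨φ g, g, rfl⟩, by show φ g (e a) = e b; rw [hφ, hg]⟩
  · obtain ⟨f⟩ := abcd_iso
    have : IsSimpleGroup ↥(chevG2.group (ZMod 5)) :=
      (Chev.g2_simple (ZMod 5) ⟨2, by decide, by decide⟩).1
    have : IsSimpleGroup ↥lyH := f.isSimpleGroup
    exact eS.symm.isSimpleGroup
  · obtain ⟨f⟩ := abcd_iso
    rw [← Nat.card_congr eS.toEquiv, Nat.card_congr f.toEquiv, card_chevG2]
    norm_num
  · exact (orderOf_injective eP.toMonoidHom eP.injective tt).trans orderOf_tt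
  · have hC := centralizer_eq hcard hb
    have hcongr : (Subgroup.centralizer ({tt} : Set P)).map eP.toMonoidHom =
        Subgroup.centralizer ({eP tt} : Set φ.range) := by
      ext y
      obtain ⟨x, rfl⟩ := eP.surjective y
      constructor
      · rintro ⟨z, hz, hze⟩
        rw [eP.injective hze] at hz
        rw [Subgroup.mem_centralizer_singleton_iff, ← map_mul, ← map_mul]
        exact congrArg eP (Subgroup.mem_centralizer_singleton_iff.1 hz)
      · intro hy
        refine ⟨x, Subgroup.mem_centralizer_singleton_iff.2 (eP.injective ?_), rfl⟩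
        rw [map_mul, map_mul]
        exact Subgroup.mem_centralizer_singleton_iff.1 hy
    exact nonsplit_congr (((MulEquiv.subgroupCongr hC.symm).trans
      (eP.subgroupMap _)).trans (MulEquiv.subgroupCongr hcongr))
        (lifts.nonsplit five_le eleven_ne)

end Cfsg.Agent.LyLocal
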