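import Mathlib

/-! Generated: a Sylow two-subgroup of the alternating group of degree 11 by three involutions. -/

namespace Cfsg.Agent.LyLocal

/-- The elements as words in the three involutions. -/
def sylWords : List (List (Fin 3)) := [[], [0], [1], [2], [0, 1], [0, 2], [1, 0], [1, 2], [2, 0], [2, 1], [0, 1, 0], [0, 1, 2], [0, 2, 0], [0, 2, 1], [1, 0, 1], [1, 0, 2], [1, 2, 0], [1, 2, 1], [2, 0, 1], [2, 0, 2], [2, 1, 0], [2, 1, 2], [0, 1, 0, 1], [0, 1, 0, 2], [0, 1, 2, 0], [0, 1, 2, 1], [0, 2, 0, 1], [0, 2, 0, 2], [0, 2, 1, 0], [0, 2, 1, 2], [1, 0, 1, 2], [1, 0, 2, 0], [1, 0, 2, 1], [1, 2, 0, 1], [1, 2, 0, 2], [1, 2, 1, 2], [2, 0, 1, 0], [2, 0, 1, 2], [2, 0, 2, 1], [2, 1, 0, 2], [2, 1, 2, 0], [0, 1, 0, 1, 2], [0, 1, 0, 2, 0], [0, 1, 0, 2, 1], [0, 1, 2, 0, 1], [0, 1, 2, 0, 2], [0, 1, 2, 1, 2], [0,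 2, 0, 1, 0], [0, 2, 0, 1, 2], [0, 2, 0, 2, 1], [0, 2, 1, 0, 2], [0, 2, 1, 2, 0], [1, 0, 1, 2, 0], [1, 0, 2, 0, 1], [1, 0, 2, 0, 2], [1, 0, 2, 1, 2], [1, 2, 0, 1, 2], [1, 2, 0, 2, 1], [1, 2, 1, 2, 0], [2, 0, 1, 0, 2], [2, 0, 1, 2, 0], [2, 0, 2, 1, 0], [2, 0, 2, 1, 2], [2, 1, 0, 2, 0], [2, 1, 2, 0, 2], [0, 1, 0, 1, 2, 0], [0, 1, 0, 2, 0, 1], [0, 1, 0, 2, 0, 2], [0, 1, 0, 2, 1, 2], [0, 1, 2, 0, 1, 2], [0, 1, 2, 0, 2, 1], [0, 1, 2, 1, 2, 0], [0, 2, 0, 1, 0, 2], [0, 2, 0, 1, 2, 0], [0, 2, 0, 2, 1, 0], [0, 2, 0, 2, 1, 2], [0, 2, 1, 0, 2, 0], [0, 2, 1, 2, 0, 2], [1, 0, 1, 2, 0, 2], [1, 0, 2, 0, 1, 2], [1, 0, 2, 0, 2, 1], [1, 0, 2, 1, 2, 0], [1, 2, 0, 1, 2, 0], [1, 2, 0, 2, 1, 2], [1, 2, 1, 2, 0, 2], [2, 0, 1, 0, 2, 0], [2, 0, 1, 2, 0, 2], [2, 0, 2, 1, 0, 2], [2, 0, 2, 1, 2, 0], [2, 1, 0, 2, 0, 2], [0, 1,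 0, 1, 2, 0, 2], [0, 1, 0, 2, 0, 1, 2], [0, 1, 0, 2, 0, 2, 1], [0, 1, 0, 2, 1, 2, 0], [0, 1, 2, 0, 1, 2, 0], [0, 1, 2, 0, 2, 1, 2], [0, 1, 2, 1, 2, 0, 2], [0, 2, 0, 1, 0, 2, 0], [0, 2, 0, 1, 2, 0, 2], [0, 2, 0, 2, 1, 0, 2], [0, 2, 0, 2, 1, 2, 0], [0, 2, 1, 0, 2, 0, 2], [1, 0, 2, 0, 1, 2, 0], [1, 0, 2, 0, 2, 1, 2], [1, 0, 2, 1, 2, 0, 2], [1, 2, 0, 1, 2, 0, 2], [1, 2, 0, 2, 1, 2, 0], [2, 0, 1, 0, 2, 0, 2], [2, 0, 2, 1, 0, 2, 0], [2, 0, 2, 1, 2, 0, 2], [0, 1, 0, 2, 0, 1, 2, 0], [0, 1, 0, 2, 0, 2, 1, 2], [0, 1, 0, 2, 1, 2, 0, 2], [0, 1, 2, 0, 1, 2, 0, 2], [0, 1, 2, 0, 2, 1, 2, 0], [0, 2, 0, 1, 0, 2, 0, 2], [0, 2, 0, 2, 1, 0, 2, 0], [0, 2, 0, 2, 1, 2, 0, 2], [1, 0, 2, 0, 1, 2, 0, 2], [1, 0, 2, 0, 2, 1, 2, 0], [1, 2, 0, 2, 1, 2, 0, 2], [2, 0, 2, 1, 0, 2, 0, 2], [0, 1, 0, 2, 0, 1, 2, 0, 2], [0, 1, 0, 2, 0,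 2, 1, 2, 0], [0, 1, 2, 0, 2, 1, 2, 0, 2], [0, 2, 0, 2, 1, 0, 2, 0, 2], [1, 0, 2, 0, 2, 1, 2, 0, 2], [0, 1, 0, 2, 0, 2, 1, 2, 0, 2]]

/-- Multiplication by the three involutions. -/
def sylNext : List (List Nat) := [[1, 2, 3], [0, 4, 5], [6, 0, 7], [8, 9, 0], [10, 1, 11], [12, 13, 1], [2, 14, 15], [16, 17, 2], [3, 18, 19], [20, 3, 21], [4, 22, 23], [24, 25, 4], [5, 26, 27], [28, 5, 29], [22, 6, 30], [31, 32, 6], [7, 33, 34], [25, 7, 35], [36, 8, 37], [27, 38, 8], [9, 30, 39], [40, 35, 9], [14, 10, 41], [42, 43, 10], [11, 44, 45], [17, 11, 46], [47, 12, 48], [19, 49, 12], [13, 41, 50], [51, 46, 13], [52, 20, 14], [15, 53, 54], [43, 15, 55], [44, 16, 56], [54, 57, 16], [58, 21, 17], [18, 52, 59], [60, 58, 18], [61, 19, 62], [63, 55, 20], [21, 56, 64], [65, 28, 22], [23, 66, 67], [32, 23, 68], [33, 24,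 69], [67, 70, 24], [71, 29, 25], [26, 65, 72], [73, 71, 26], [74, 27, 75], [76, 68, 28], [29, 69, 77], [30, 36, 78], [66, 31, 79], [34, 80, 31], [81, 39, 32], [82, 40, 33], [70, 34, 83], [35, 37, 84], [85, 81, 36], [37, 82, 86], [38, 78, 87], [88, 84, 38], [39, 79, 89], [89, 83, 40], [41, 47, 90], [53, 42, 91], [45, 92, 42], [93, 50, 43], [94, 51, 44], [57, 45, 95], [46, 48, 96], [97, 93, 47], [48, 94, 98], [49, 90, 99], [100, 96, 49], [50, 91, 101], [101, 95, 51], [90, 61, 52], [102, 63, 53], [92, 54, 103], [55, 59, 104], [56, 60, 105], [106, 64, 57], [96, 62, 58], [59, 102, 107], [107, 106, 60], [108, 104, 61], [62, 105, 109], [64, 103, 63], [78, 74, 65], [110, 76, 66], [80, 67, 111], [68, 72, 112], [69, 73, 113], [114, 77, 70], [84, 75, 71], [72, 110, 115], [115, 114, 73], [116, 112, 74], [75, 113,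 117], [77, 111, 76], [79, 85, 118], [119, 89, 80], [112, 87, 81], [113, 88, 82], [83, 86, 120], [86, 119, 85], [87, 118, 121], [121, 120, 88], [91, 97, 122], [123, 101, 92], [104, 99, 93], [105, 100, 94], [95, 98, 124], [98, 123, 97], [99, 122, 125], [125, 124, 100], [122, 108, 102], [103, 107, 126], [124, 109, 106], [109, 126, 108], [118, 116, 110], [111, 115, 127], [120, 117, 114], [117, 127, 116], [127, 121, 119], [126, 125, 123]]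

/-- The place of the central involution. -/
def sylCentre : Nat := 127

end Cfsg.Agent.LyLocal
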