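import Cfsg.Agent.ShortPres.AltBasic
import Cfsg.Agent.SymSylow.Alt
import Cfsg.Agent.LyLocal.SylowData

/-!
# A Sylow two-subgroup and the involutions of the alternating group of degree 11
-/

set_option autoImplicit false
set_option maxRecDepth 100000

namespace Cfsg.Agent.LyLocal

open Equiv Equiv.Perm Cfsg.Agent.ShortPres Cfsg.Agent.AltMult

/-- The alternating group of degree 11. -/
abbrev A11 : Type := alternatingGroup (Fin 11)

theorem shift_ne (i : Fin 9) :
    (⟨i.val + 2, Nat.add_lt_add_right i.isLt 2⟩ : Fin 11) ≠ 0 ∧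
      (⟨i.val + 2, Nat.add_lt_add_right i.isLt 2⟩ : Fin 11) ≠ 1 := by
  refine ⟨fun h => ?_, fun h => ?_⟩ <;>
  · have := congrArg Fin.val h
    simp at this

/-- The third point of a three-cycle. -/
def restOf (i : Fin 9) : Rest (0 : Fin 11) 1 :=
  ⟨⟨i.val + 2, Nat.add_lt_add_right i.isLt 2⟩, shift_ne i⟩

/-- The three-cycle `(0 1 i+2)`. -/
def genA (i : Fin 9) : A11 := cycR (show (0 : Fin 11) ≠ 1 by decide) (restOf i)

/-- The value of a word in the three-cycles. -/
def altW (w : List (Fin 9)) : A11 := (w.map genA).prod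

/-- The words of the three involutions. -/
def sylGenWord : Fin 3 → List (Fin 9) :=
  ![[0, 2, 1, 3, 0, 2, 4, 6, 5, 7, 4, 6], [0, 1, 2, 3, 0, 1, 5, 4], [1, 0, 2, 4, 3, 5, 2, 4]]

/-- The three involutions. -/
def sBar (k : Fin 3) : A11 := altW (sylGenWord k)

/-- An element of the table. -/
def sylElA (i : Nat) : A11 := ((sylWords.getD i []).map sBar).prod

/-- The images of the points. -/
def pcode (σ : A11) : List (Fin 11) := (List.finRange 11).map fun p => (σ : Perm (Fin 11)) p

theorem pcode_injective : Function.Injective pcode := by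
  intro σ τ h
  apply Subtype.ext
  apply Equiv.ext
  intro p
  exact List.map_inj_left.1 h p (List.mem_finRange p)

theorem syl_closed : ((List.range 128).all fun i => (List.finRange 3).all fun k =>
    Nat.blt ((sylNext.getD i []).getD k.val 0) 128 &&
      (pcode (sylElA i * sBar k) == pcode (sylElA ((sylNext.getD i []).getD k.val 0)))) = true := by
  decide +kernel

theorem syl_nodup : ((List.range 128).map fun i => pcode (sylElA i)).Nodup := by decide +kernel

theorem sBar_sq : ((List.finRange 3).all fun k => pcode (sBar k * sBar k) == pcode 1) = true := by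
  decide +kernel

theorem syl_zero : pcode (sylElA 0) = pcode 1 := by decide +kernel

theorem syl_centre : ((List.range 128).all fun i => Nat.beq i 0 || Nat.beq i sylCentre ||
    !((List.finRange 3).all fun k => pcode (sylElA i * sBar k) == pcode (sBar k * sylElA i))) = true := by
  decide +kernel

/-- The Sylow subgroup. -/
def SBar : Subgroup A11 := Subgroup.closure (Set.range sBar)

theorem sBar_mem (k : Fin 3) : sBar k ∈ SBar := Subgroup.subset_closure ⟨k, rfl⟩

theorem mem_SBar {x : A11} : x ∈ SBar ↔ ∃ i < 128, sylElA i = x := by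
  constructor
  · intro hx
    induction hx using Subgroup.closure_induction_right with
    | one => exact ⟨0, by norm_num, pcode_injective syl_zero⟩
    | mul_right y _ z hz ih =>
      obtain ⟨k, rfl⟩ := hz
      obtain ⟨i, hi, rfl⟩ := ih
      have h := List.all_eq_true.1 (List.all_eq_true.1 syl_closed i (List.mem_range.2 hi)) k
        (List.mem_finRange k)
      rw [Bool.and_eq_true, beq_iff_eq] at h
      exact ⟨_, Nat.le_of_ble_eq_true h.1, (pcode_injective h.2).symm⟩
    | mul_inv_cancel y _ z hz ih =>
      obtain ⟨k, rfl⟩ := hz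
      obtain ⟨i, hi, rfl⟩ := ih
      have h := List.all_eq_true.1 (List.all_eq_true.1 syl_closed i (List.mem_range.2 hi)) k
        (List.mem_finRange k)
      rw [Bool.and_eq_true, beq_iff_eq] at h
      have h2 := beq_iff_eq.1 (List.all_eq_true.1 sBar_sq k (List.mem_finRange k))
      refine ⟨_, Nat.le_of_ble_eq_true h.1, ?_⟩
      rw [inv_eq_of_mul_eq_one_right (pcode_injective h2)]
      exact (pcode_injective h.2).symm
  · rintro ⟨i, -, rfl⟩
    refine list_prod_mem fun y hy => ?_
    obtain ⟨k, -, rfl⟩ := List.mem_map.1 hy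
    exact sBar_mem k

theorem card_SBar : Nat.card SBar = 2 ^ 7 := by
  have hinj : Function.Injective fun i : Fin 128 => sylElA i.val := fun i j h => by
    have := List.inj_on_of_nodup_map syl_nodup (List.mem_range.2 i.isLt) (List.mem_range.2 j.isLt)
      (congrArg pcode h)
    exact Fin.ext this
  have hset : (SBar : Set A11) = Set.range fun i : Fin 128 => sylElA i.val := by
    ext x
    rw [SetLike.mem_coe, mem_SBar]
    exact ⟨fun ⟨i, hi, h⟩ => ⟨⟨i, hi⟩, h⟩, fun ⟨i, h⟩ => ⟨i.val, i.isLt, h⟩⟩
  show Nat.card (SBar : Set A11) = _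
  rw [hset, Nat.card_range_of_injective hinj, Nat.card_fin]
  rfl

theorem centre_SBar {x : A11} (hx : x ∈ SBar) (hc : ∀ k, x * sBar k = sBar k * x) :
    x = 1 ∨ x = sylElA sylCentre := by
  obtain ⟨i, hi, rfl⟩ := mem_SBar.1 hx
  have h := List.all_eq_true.1 syl_centre i (List.mem_range.2 hi)
  simp only [Bool.or_eq_true, Nat.beq_eq, Bool.not_eq_true'] at h
  rcases h with (rfl | rfl) | h
  · exact Or.inl (pcode_injective syl_zero)
  · exact Or.inr rfl
  · exfalso
    rw [← Bool.not_eq_true, List.all_eq_true] at h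
    exact h fun k _ => beq_iff_eq.2 (congrArg pcode (hc k))

theorem card_A11 : Nat.card A11 = 19958400 := by
  have h : 2 * Nat.card A11 = (Fintype.card (Fin 11)).factorial :=
    two_mul_card_alt (β := Fin 11)
  rw [Fintype.card_fin, show Nat.factorial 11 = 39916800 by decide] at h
  omega

theorem normalizer_SBar : Subgroup.normalizer (SBar : Set A11) = SBar := by
  have := Fact.mk Nat.prime_two
  let Q : Sylow 2 A11 := Sylow.ofCard SBar (by
    rw [card_SBar, card_A11, show (19958400 : ℕ) = 2 ^ 7 * 155925 by norm_num,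
      Nat.factorization_mul (by norm_num) (by norm_num), Finsupp.add_apply,
      Nat.Prime.factorization_pow Nat.prime_two, Finsupp.single_eq_same,
      Nat.factorization_eq_zero_of_not_dvd (by norm_num)])
  exact Cfsg.Agent.SymSylow.normalizer_sylow_alt (by norm_num) Q

/-- The words of representatives of the two classes of involutions. -/
def repWord : Bool → List (Fin 9)
  | false => [0, 1]
  | true => [0, 1, 4, 5, 0, 1, 2, 3]

theorem rep_facts : ∀ b, altW (repWord b) ≠ 1 ∧ altW (repWord b) * altW (repWord b) = 1 ∧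
    (altW (repWord b) : Perm (Fin 11)).support.card = cond b 8 4 := by
  have h : ([false, true].all fun b => !(pcode (altW (repWord b)) == pcode 1) &&
      (pcode (altW (repWord b) * altW (repWord b)) == pcode 1) &&
      decide ((altW (repWord b) : Perm (Fin 11)).support.card = cond b 8 4)) = true := by
    decide +kernel
  intro b
  have h1 := List.all_eq_true.1 h b (by cases b <;> simp)
  simp only [Bool.and_eq_true, Bool.not_eq_true', beq_iff_eq, decide_eq_true_eq] at h1
  refine ⟨fun e => ?_, pcode_injective h1.1.2, h1.2⟩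
  rw [e] at h1
  simp at h1

theorem cycleType_invol {g : A11} (h1 : g ≠ 1) (h2 : g * g = 1) :
    ∃ k, (g : Perm (Fin 11)).cycleType = Multiset.replicate k 2 ∧ (k = 2 ∨ k = 4) ∧
      (g : Perm (Fin 11)).support.card = 2 * k := by
  have h2' : (g : Perm (Fin 11)) ^ 2 = 1 := by
    rw [pow_two, ← Subgroup.coe_mul, h2, OneMemClass.coe_one]
  have ho : orderOf (g : Perm (Fin 11)) = 2 :=
    orderOf_eq_prime h2' fun h => h1 (Subtype.ext h)
  obtain ⟨n, hn⟩ := cycleType_prime_order (σ := (g : Perm (Fin 11))) (ho ▸ Nat.prime_two)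
  rw [ho] at hn
  have hs : sign (g : Perm (Fin 11)) = 1 := Perm.mem_alternatingGroup.1 g.2
  have hsum := sum_cycleType (g : Perm (Fin 11))
  have hle := Finset.card_le_univ (g : Perm (Fin 11)).support
  rw [hn, Multiset.sum_replicate, smul_eq_mul] at hsum
  rw [Fintype.card_fin] at hle
  rw [sign_of_cycleType, hn, Multiset.sum_replicate, Multiset.card_replicate, smul_eq_mul] at hs
  refine ⟨n + 1, hn, ?_, by omega⟩
  have hn4 : n < 5 := by omega
  interval_cases n
  · exact absurd hs (by decide)
  · exact Or.inl rfl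
  · exact absurd hs (by decide)
  · exact Or.inr rfl
  · exact absurd hs (by decide)

theorem invol_conj {g : A11} (h1 : g ≠ 1) (h2 : g * g = 1) : ∃ b, IsConj (altW (repWord b)) g := by
  obtain ⟨k, hk, hk24, hc⟩ := cycleType_invol h1 h2
  have aux : ∀ b, k = cond b 4 2 → IsConj (altW (repWord b)) g := by
    intro b hb
    obtain ⟨r1, r2, r3⟩ := rep_facts b
    obtain ⟨k', hk', -, hc'⟩ := cycleType_invol r1 r2
    have : k' = k := by rw [r3] at hc'; cases b <;> simp at hb hc' <;> omega
    subst this
    refine alternatingGroup.isConj_of (Perm.isConj_iff_cycleType_eq.2 (hk'.trans hk.symm)) ?_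
    rw [r3, Fintype.card_fin]
    cases b <;> simp
  rcases hk24 with rfl | rfl
  · exact ⟨false, aux false rfl⟩
  · exact ⟨true, aux true rfl⟩

end Cfsg.Agent.LyLocal
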