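import Cfsg.Agent.GroupSub.Data
import Cfsg.Agent.LyLocal.Cover
import Cfsg.Agent.LyLocal.SylowAlt

/-!
# The two-fusion of the Lyons group, given the order of an involution centraliser
-/

set_option autoImplicit false
set_option maxRecDepth 100000
set_option linter.unusedSectionVars false

namespace Cfsg.Agent.LyLocal

open Cfsg.Agent.LyMat Cfsg.Agent.ShortPres Cfsg.Agent.GroupSub

variable [IsSimpleGroup P]

theorem Lifts.exists_proj_lifts :
    ∃ π : DD →* A11, Function.Surjective π ∧
      (∀ g : DD, π g = 1 ↔ (g : P) = 1 ∨ (g : P) = tt) ∧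
      ∀ x, π ⟨lifts.E x, lifts.E_mem x⟩ = cycR eleven_ne x :=
  lifts.exists_proj five_le eleven_ne

/-- The projection onto the alternating group. -/
noncomputable def proj : DD →* A11 := Classical.choose Lifts.exists_proj_lifts

theorem proj_surj : Function.Surjective proj :=
  (Classical.choose_spec Lifts.exists_proj_lifts).1

theorem proj_one (g : DD) : proj g = 1 ↔ (g : P) = 1 ∨ (g : P) = tt :=
  (Classical.choose_spec Lifts.exists_proj_lifts).2.1 g

theorem proj_gen (x : Rest (0 : Fin 11) 1) : proj ⟨lifts.E x, lifts.E_mem x⟩ = cycR eleven_ne x :=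
  (Classical.choose_spec Lifts.exists_proj_lifts).2.2 x

theorem tt_mem : tt ∈ DD := lifts.t_mem five_le eleven_ne

theorem tt_central {g : P} (hg : g ∈ DD) : g * tt = tt * g := lifts.t_central hg

theorem xl_eq (i : Fin 9) : el (12 + i.val) = lifts.E (restOf i) := by
  show el (12 + i.val) = el (10 + (i.val + 2))
  rw [show 12 + i.val = 10 + (i.val + 2) by omega]

/-- An element of the cover given by a word in the lifted three-cycles. -/
def liftW (w : List (Fin 9)) : P := (w.map fun i => el (12 + i.val)).prod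

theorem liftW_spec (w : List (Fin 9)) :
    ∃ h : liftW w ∈ DD, proj ⟨liftW w, h⟩ = altW w := by
  induction w with
  | nil => exact ⟨one_mem _, map_one proj⟩
  | cons i w ih =>
    obtain ⟨h, hp⟩ := ih
    have hi : el (12 + i.val) ∈ DD := xl_eq i ▸ lifts.E_mem _
    refine ⟨mul_mem hi h, ?_⟩
    show proj (⟨el (12 + i.val), hi⟩ * ⟨liftW w, h⟩) = genA i * altW w
    rw [map_mul, hp, show (⟨el (12 + i.val), hi⟩ : DD) = ⟨lifts.E (restOf i), lifts.E_mem _⟩ from
      Subtype.ext (xl_eq i), proj_gen, genA]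

theorem elW_liftW (w : List (Fin 9)) : elW (w.map fun i => 12 + i.val) = liftW w := by
  simp [elW, liftW, List.map_map, Function.comp_def]

theorem eq_or_of_proj {g h : DD} (e : proj g = proj h) : (g : P) = h ∨ (g : P) = h * tt := by
  have h1 : proj (h⁻¹ * g) = 1 := by rw [map_mul, map_inv, e, inv_mul_cancel]
  rcases (proj_one _).1 h1 with h2 | h2
  · left
    rw [Subgroup.coe_mul, Subgroup.coe_inv, inv_mul_eq_one] at h2
    exact h2.symm
  · right
    rw [Subgroup.coe_mul, Subgroup.coe_inv, inv_mul_eq_iff_eq_mul] at h2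
    exact h2

theorem el_sg_eq : el 25 = liftW (sylGenWord 0) ∧ el 26 = liftW (sylGenWord 1) ∧
    el 27 = liftW (sylGenWord 2) ∧ el 22 = liftW (repWord true) := by
  have hd : (defWords.getD 15 [] = (sylGenWord 0).map fun i => 12 + i.val) ∧
      (defWords.getD 16 [] = (sylGenWord 1).map fun i => 12 + i.val) ∧
      (defWords.getD 17 [] = (sylGenWord 2).map fun i => 12 + i.val) ∧
      (defWords.getD 12 [] = (repWord true).map fun i => 12 + i.val) := by decide
  obtain ⟨d1, d2, d3, d4⟩ := hd
  simp only [← elW_liftW, ← d1, ← d2, ← d3, ← d4, ← elW_one]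
  exact ⟨eq_of_same def25, eq_of_same def26, eq_of_same def27, eq_of_same def22⟩

/-- The lifts of the three involutions. -/
def sgEl (k : Fin 3) : P := el (25 + k.val)

theorem sgEl_spec (k : Fin 3) : ∃ h : sgEl k ∈ DD, proj ⟨sgEl k, h⟩ = sBar k := by
  have : sgEl k = liftW (sylGenWord k) := by
    obtain ⟨e0, e1, e2, -⟩ := el_sg_eq
    fin_cases k
    exacts [e0, e1, e2]
  obtain ⟨h, hp⟩ := liftW_spec (sylGenWord k)
  exact ⟨this ▸ h, by simpa [this, sBar] using hp⟩

theorem sgEl_sq (k : Fin 3) : sgEl k * sgEl k = 1 := by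
  fin_cases k
  · simpa [elW, sgEl] using eq_of_same sgSq0
  · simpa [elW, sgEl] using eq_of_same sgSq1
  · simpa [elW, sgEl] using eq_of_same sgSq2

/-- The Sylow subgroup. -/
noncomputable def SS : Subgroup P := (SBar.comap proj).map DD.subtype

theorem mem_SS {g : P} : g ∈ SS ↔ ∃ h : g ∈ DD, proj ⟨g, h⟩ ∈ SBar := by
  constructor
  · rintro ⟨⟨y, hy⟩, hm, rfl⟩
    exact ⟨hy, hm⟩
  · rintro ⟨h, hm⟩
    exact ⟨⟨g, h⟩, hm, rfl⟩

theorem tt_mem_SS : tt ∈ SS :=
  mem_SS.2 ⟨tt_mem, by rw [(proj_one ⟨tt, tt_mem⟩).2 (Or.inr rfl)]; exact one_mem _⟩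

theorem sgEl_mem (k : Fin 3) : sgEl k ∈ SS := by
  obtain ⟨h, hp⟩ := sgEl_spec k
  exact mem_SS.2 ⟨h, hp ▸ sBar_mem k⟩

theorem card_SS : Nat.card SS = 256 := by
  have : Finite DD := lifts.grp_finite five_le eleven_ne
  have h1 : Nat.card SS = Nat.card (SBar.comap proj) :=
    Subgroup.card_map_of_injective Subtype.val_injective
  have h3 : (SBar.comap proj).index = SBar.index := SBar.index_comap_of_surjective proj_surj
  have h4 := (SBar.comap proj).card_mul_index
  have h5 := SBar.card_mul_index
  rw [card_SBar, card_A11] at h5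
  rw [h3, card_DD] at h4
  rw [h1]
  have : SBar.index = 155925 := by omega
  rw [this] at h4
  omega

/-- Every involution of the cover is conjugate to the central one. -/
theorem isConj_of_sq {x : P} (hx : x ∈ DD) (h1 : x ≠ 1) (h2 : x * x = 1) : IsConj tt x := by
  rcases eq_or_ne x tt with rfl | hxt
  · exact IsConj.refl _
  have hb1 : proj ⟨x, hx⟩ ≠ 1 := fun h => ((proj_one _).1 h).elim h1 hxt
  have hb2 : proj ⟨x, hx⟩ * proj ⟨x, hx⟩ = 1 := by
    rw [← map_mul, show (⟨x, hx⟩ * ⟨x, hx⟩ : DD) = 1 from Subtype.ext h2, map_one]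
  obtain ⟨b, hb⟩ := invol_conj hb1 hb2
  obtain ⟨c, hc⟩ := isConj_iff.1 hb
  obtain ⟨⟨d, hd⟩, rfl⟩ := proj_surj c
  obtain ⟨hq, hpq⟩ := liftW_spec (repWord b)
  have hgx : proj ⟨x, hx⟩ = proj (⟨d, hd⟩ * ⟨liftW (repWord b), hq⟩ * ⟨d, hd⟩⁻¹) := by
    rw [map_mul, map_mul, map_inv, hpq, hc]
  rcases eq_or_of_proj hgx with hxe | hxe <;>
    simp only [Subgroup.coe_mul, Subgroup.coe_inv] at hxe
  all_goals
    obtain hbt | hbf := Bool.eq_false_or_eq_true b
  -- squares of lifts of double transpositions are central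
  rotate_left
  · exfalso
    subst hbf
    have hsq : liftW (repWord false) * liftW (repWord false) = tt := by
      have := eq_of_same sq0_1
      simpa [elW, liftW, repWord, tt, mul_assoc] using this
    refine tt_ne ?_
    rw [← h2, hxe]
    calc tt = d * tt * d⁻¹ := by rw [tt_central hd, mul_inv_cancel_right]
      _ = d * (liftW (repWord false) * liftW (repWord false)) * d⁻¹ := by rw [hsq]
      _ = _ := by group
  rotate_left
  · exfalso
    subst hbf
    have hsq : liftW (repWord false) * liftW (repWord false) = tt := by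
      have := eq_of_same sq0_1
      simpa [elW, liftW, repWord, tt, mul_assoc] using this
    refine tt_ne ?_
    have hc1 : d * liftW (repWord false) * d⁻¹ * tt = tt * (d * liftW (repWord false) * d⁻¹) :=
      tt_central (mul_mem (mul_mem hd hq) (inv_mem hd))
    rw [← h2, hxe]
    calc tt = d * tt * d⁻¹ := by rw [tt_central hd, mul_inv_cancel_right]
      _ = d * (liftW (repWord false) * liftW (repWord false)) * d⁻¹ * (tt * tt) := by
        rw [hsq, tt_sq, mul_one]
      _ = d * liftW (repWord false) * d⁻¹ * (d * liftW (repWord false) * d⁻¹ * tt) * tt := by group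
      _ = d * liftW (repWord false) * d⁻¹ * (tt * (d * liftW (repWord false) * d⁻¹)) * tt := by rw [hc1]
      _ = _ := by group
  all_goals
    subst hbt
    rw [← el_sg_eq.2.2.2] at hxe
    have hg : el 24 * tt = el 22 * el 24 := by simpa [elW, tt] using eq_of_same gConj
    have hW : IsConj tt (el 22) := isConj_iff.2 ⟨el 24, by rw [hg, mul_inv_cancel_right]⟩
  · rw [hxe]
    exact hW.trans (isConj_iff.2 ⟨d, rfl⟩)
  · rw [hxe]
    refine hW.trans (isConj_iff.2 ⟨d * (el 15 * el 14), ?_⟩)
    have hdw : el 15 * el 14 * el 22 = el 22 * tt * (el 15 * el 14) := by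
      simpa [elW, tt, mul_assoc] using eq_of_same dConj
    calc d * (el 15 * el 14) * el 22 * (d * (el 15 * el 14))⁻¹
        = d * (el 15 * el 14 * el 22) * (el 15 * el 14)⁻¹ * d⁻¹ := by group
      _ = d * el 22 * (tt * d⁻¹) := by rw [hdw]; group
      _ = d * el 22 * (d⁻¹ * tt) := by rw [tt_central (inv_mem hd)]
      _ = _ := by group

theorem invol_centre {x : P} (hx : x ∈ SS) (h1 : x ≠ 1) (h2 : x * x = 1)
    (hc : ∀ s ∈ SS, s * x = x * s) : x = tt := by
  obtain ⟨hD, hS⟩ := mem_SS.1 hx
  have hcomm : ∀ k, proj ⟨x, hD⟩ * sBar k = sBar k * proj ⟨x, hD⟩ := by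
    intro k
    obtain ⟨h, hp⟩ := sgEl_spec k
    rw [← hp, ← map_mul, ← map_mul]
    exact congrArg proj (Subtype.ext (hc _ (sgEl_mem k)).symm)
  rcases centre_SBar hS hcomm with h | h
  · exact ((proj_one _).1 h).resolve_left h1
  · exfalso
    let e : Fin 3 → DD := fun k => ⟨sgEl k, (sgEl_spec k).1⟩
    let z : DD := ((sylWords.getD sylCentre []).map e).prod
    have hz : proj z = sylElA sylCentre := by
      simp only [z, sylElA, map_list_prod, List.map_map]
      exact congrArg List.prod (List.map_congr_left fun k _ => (sgEl_spec k).2)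
    have hzv : (z : P) = elW [25, 26, 25, 27, 25, 27, 26, 27, 25, 27] := by
      have hw : (sylWords.getD sylCentre []).map (fun k => 25 + k.val) =
          [25, 26, 25, 27, 25, 27, 26, 27, 25, 27] := by decide
      simp only [z]
      rw [← hw, elW, Subgroup.val_list_prod, List.map_map, List.map_map]
      rfl
    have hwit : (z : P) * el 25 = tt * el 25 * (z : P) := by
      have := eq_of_same centreWit
      rw [hzv]
      simpa [elW, tt, mul_assoc] using this
    have hk : sgEl 0 * x = x * sgEl 0 := hc _ (sgEl_mem 0)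
    have hzc : (z : P) * el 25 = el 25 * (z : P) := by
      have e25 : el 25 ∈ DD := (sgEl_spec 0).1
      rcases eq_or_of_proj (g := z) (h := ⟨x, hD⟩) (by rw [hz, h]) with hze | hze <;>
        rw [hze] <;> simp only [sgEl] at hk
      · exact hk.symm
      · show x * tt * el 25 = el 25 * (x * tt)
        rw [mul_assoc, ← tt_central e25, ← mul_assoc, ← mul_assoc]
        exact congrArg (· * tt) hk.symm
    rw [hzc, mul_assoc tt] at hwit
    exact tt_ne (mul_eq_right.1 hwit.symm)

variable (hcard : Nat.card P = 51765179004000000)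
include hcard

theorem finite_P : Finite P := Nat.finite_of_card_ne_zero (by omega)

/-- The two-fusion system is simple. -/
theorem isSimple_fusion (hb : Nat.card (Subgroup.centralizer ({tt} : Set P)) < 3 * 39916800)
    {G : Type*} [Group G] [Finite G] (e : P ≃* G) (S : Sylow 2 G) :
    (Cfsg.groupFusionSystem (S : Subgroup G)).IsSimple 2 := by
  have := Fact.mk Nat.prime_two
  have := finite_P hcard
  have hC := centralizer_eq hcard hb
  let S0 : Sylow 2 P := Sylow.ofCard SS (by
    rw [card_SS, hcard, show (51765179004000000 : ℕ) = 2 ^ 8 * 202207730484375 by norm_num,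
      Nat.factorization_mul (by norm_num) (by norm_num), Finsupp.add_apply,
      Nat.Prime.factorization_pow Nat.prime_two, Finsupp.single_eq_same,
      Nat.factorization_eq_zero_of_not_dvd (by norm_num)]
    all_goals norm_num)
  let T0 : Sylow 2 G := S0.mapSurjective (f := e.toMonoidHom) e.surjective
  have hT0 : (T0 : Subgroup G) = SS.map e.toMonoidHom := rfl
  refine isSimple_of_data T0 ?_ ?_ ?_ S <;> rw [hT0]
  · rw [Ne, Subgroup.map_eq_bot_iff_of_injective _ e.injective]
    intro h
    have := card_SS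
    rw [h, Subgroup.card_bot] at this
    norm_num at this
  · intro T hT
    have hcl : ∀ x : P, e x ∈ T → ∀ g : P, g * x * g⁻¹ ∈ SS → e (g * x * g⁻¹) ∈ T := by
      intro x hx g hg
      have h := hT.2 (e x) hx (e g) ⟨g * x * g⁻¹, hg, by simp⟩
      simpa using h
    by_cases hbot : T = ⊥
    · exact Or.inl hbot
    right
    refine le_antisymm hT.1 ?_
    have hle : T.comap e.toMonoidHom ≤ SS := fun x hx => by
      obtain ⟨y, hy, hye⟩ := hT.1 hx
      exact e.injective hye ▸ hy
    have hp : IsPGroup 2 (T.comap e.toMonoidHom) :=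
      (IsPGroup.of_card (n := 8) (by rw [card_SS]; norm_num)).to_le hle
    obtain ⟨u, hu⟩ := exists_prime_orderOf_dvd_card' (G := T.comap e.toMonoidHom) 2 (by
      obtain ⟨n, hn⟩ := IsPGroup.iff_card.mp hp
      rcases n with _ | n
      · exfalso
        rw [pow_zero] at hn
        have hb0 := Subgroup.card_eq_one.mp hn
        refine hbot ?_
        rw [← Subgroup.map_comap_eq_self_of_surjective (f := e.toMonoidHom) e.surjective T, hb0,
          Subgroup.map_bot]
      · rw [hn]; exact dvd_pow_self 2 n.succ_ne_zero)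
    have hu' : orderOf (u : P) = 2 := by rw [Subgroup.orderOf_coe, hu]
    have hinv : ∀ v ∈ SS, v ≠ 1 → v * v = 1 → e v ∈ T := by
      intro v hv hv1 hv2
      obtain ⟨g, hg⟩ := isConj_iff.1 ((isConj_of_sq (mem_SS.1 (hle u.2)).1
        (fun h => by rw [h, orderOf_one] at hu'; exact absurd hu' (by norm_num))
        (by rw [← pow_two, ← hu', pow_orderOf_eq_one])).symm.trans
          (isConj_of_sq (mem_SS.1 hv).1 hv1 hv2))
      rw [← hg]
      exact hcl u.1 u.2 g (by rw [hg]; exact hv)
    have hone : ∀ k, e (sgEl k) ∈ T := fun k => by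
      rcases eq_or_ne (sgEl k) 1 with h | h
      · rw [h, map_one]; exact one_mem _
      · exact hinv _ (sgEl_mem k) h (sgEl_sq k)
    have ht : e tt ∈ T := hinv _ tt_mem_SS tt_ne tt_sq
    rintro _ ⟨x, hx, rfl⟩
    obtain ⟨hD, hS⟩ := mem_SS.1 hx
    show x ∈ T.comap e.toMonoidHom
    have key : ∀ b ∈ SBar, ∀ y : DD, proj y = b → (y : P) ∈ T.comap e.toMonoidHom := by
      intro b hb
      induction hb using Subgroup.closure_induction with
      | mem b hb =>
        obtain ⟨k, rfl⟩ := hb
        obtain ⟨h, hp⟩ := sgEl_spec k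
        intro y hy
        rcases eq_or_of_proj (h := ⟨sgEl k, h⟩) (by rw [hy, hp]) with he | he <;> rw [he]
        · exact hone k
        · exact mul_mem (hone k) ht
      | one =>
        intro y hy
        rcases (proj_one y).1 hy with he | he <;> rw [he]
        · exact one_mem _
        · exact ht
      | mul a b _ _ iha ihb =>
        intro y hy
        obtain ⟨a', ha'⟩ := proj_surj a
        have h2 := ihb (a'⁻¹ * y) (by rw [map_mul, map_inv, ha', hy, inv_mul_cancel_left])
        have h3 := mul_mem (iha a' ha') h2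
        simpa using h3
      | inv a _ iha =>
        intro y hy
        have := inv_mem (iha y⁻¹ (by rw [map_inv, hy, inv_inv]))
        simpa using this
    exact key _ hS ⟨x, hD⟩ rfl
  · intro g hg
    obtain ⟨x, rfl⟩ := e.surjective g
    have hx : x ∈ Subgroup.normalizer (SS : Set P) := Subgroup.mem_normalizer_iff.2 fun y => by
      have h := Subgroup.mem_normalizer_iff.1 hg (e y)
      simp only [← map_inv, ← map_mul] at h
      constructor
      · intro hy
        obtain ⟨z, hz, hze⟩ := h.1 ⟨y, hy, rfl⟩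
        exact e.injective hze ▸ hz
      · intro hy
        obtain ⟨z, hz, hze⟩ := h.2 ⟨_, hy, rfl⟩
        exact e.injective hze ▸ hz
    have hxt : x * tt * x⁻¹ = tt := by
      refine invol_centre ((Subgroup.mem_normalizer_iff.1 hx tt).1 tt_mem_SS) ?_ ?_ fun s hs => ?_
      · exact fun h => tt_ne (conj_eq_one_iff.1 h)
      · calc x * tt * x⁻¹ * (x * tt * x⁻¹) = x * (tt * tt) * x⁻¹ := by group
          _ = 1 := by rw [tt_sq]; group
      · have hs' : x⁻¹ * s * x ∈ SS := (Subgroup.mem_normalizer_iff''.1 hx s).1 hs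
        calc s * (x * tt * x⁻¹) = x * ((x⁻¹ * s * x) * tt) * x⁻¹ := by group
          _ = x * (tt * (x⁻¹ * s * x)) * x⁻¹ := by rw [tt_central (mem_SS.1 hs').1]
          _ = x * tt * x⁻¹ * s := by group
    have hxD : x ∈ DD := by
      rw [← hC, Subgroup.mem_centralizer_singleton_iff]
      exact mul_inv_eq_iff_eq_mul.1 hxt
    have hxN : proj ⟨x, hxD⟩ ∈ Subgroup.normalizer (SBar : Set A11) := by
      rw [Subgroup.mem_normalizer_iff]
      intro b
      obtain ⟨⟨y, hyD⟩, rfl⟩ := proj_surj b
      rw [← map_inv, ← map_mul, ← map_mul]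
      have h := Subgroup.mem_normalizer_iff.1 hx y
      simp only [mem_SS] at h
      exact ⟨fun hb => (h.1 ⟨hyD, hb⟩).2, fun hb => (h.2 ⟨_, hb⟩).2⟩
    rw [normalizer_SBar] at hxN
    exact Subgroup.mem_sup_left (Subgroup.mem_sup_left ⟨x, mem_SS.2 ⟨hxD, hxN⟩, rfl⟩)

end Cfsg.Agent.LyLocal
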