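import Cfsg.Agent.LyLocal.Central
import Cfsg.Agent.LyLocal.Exists
import Cfsg.Agent.LyThree.Glue
import Cfsg.Agent.DCoset.LyOrb.All
import Cfsg.Agent.LyLocal.Fusion
import Cfsg.Prelude.Def_Spor_Ly

/-!
The Lyons group from a double coset certificate: fusion at the prime two, and the permutation group
of degree `8835156`.
-/

set_option autoImplicit false
set_option maxRecDepth 100000

namespace Cfsg.Agent.LyLocal

open Cfsg.Agent.DCoset Cfsg.Agent.LyMat

/-- What is used of a certificate. -/
structure CertData where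
  D : Steps
  C : Cover
  steps : ∀ s, s < D.len → Steps.check D DCoset.Ly.rules DCoset.Ly.tab s = true
  src : ∀ j, 1 ≤ j → j < D.nNode → D.nodeSrc j < j
  valid : C.Valid D DCoset.Ly.rules DCoset.Ly.tab 5859000000
  sum : ((List.range C.nLive).map C.idx).sum = 8835156
  live : C.nLive = 5
  mem : ∀ m : Fin 5, ∃ j, j < 5 ∧ C.idx j = LyThree.idxList m ∧ (m = 0 → j = 0)

namespace CertData

variable (K : CertData)
include K

theorem facts : Finite P ∧ Nat.card P = 51765179004000000 ∧ lyH.index = 8835156 :=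
  DCoset.Ly.index_eq K.D K.C K.steps K.src K.valid K.sum DCoset.LyOrb.dvd_all

theorem hsub : ∀ S : Finset (Fin K.C.nLive), (∀ m : Fin K.C.nLive, m.1 = 0 → m ∈ S) →
    (∑ m ∈ S, K.C.idx m.1) ∣ 8835156 →
      (∑ m ∈ S, K.C.idx m.1) = 1 ∨ (∑ m ∈ S, K.C.idx m.1) = 8835156 := by
  classical
  choose j hj hje hj0 using K.mem
  have hinj : Function.Injective j := fun a b h => by
    have e : LyThree.idxList a = LyThree.idxList b := by rw [← hje a, ← hje b, h]
    revert e
    clear h
    revert a b
    decide +kernel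
  have hb : Function.Bijective fun m : Fin 5 => (⟨j m, K.live ▸ hj m⟩ : Fin K.C.nLive) :=
    (Fintype.bijective_iff_injective_and_card _).2
      ⟨fun a b h => hinj (congrArg Fin.val h), by simp [K.live]⟩
  let σ := Equiv.ofBijective _ hb
  intro S h0 hd
  have hsum : ∑ m ∈ S, K.C.idx m.1 = ∑ m ∈ S.map σ.symm.toEmbedding, LyThree.idxList m := by
    rw [Finset.sum_map]
    refine Finset.sum_congr rfl fun m _ => ?_
    have := hje (σ.symm m)
    rw [Equiv.coe_toEmbedding, ← this]
    exact congrArg K.C.idx (congrArg Fin.val (σ.apply_symm_apply m)).symm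
  rw [hsum] at hd ⊢
  have key : ∀ T : Finset (Fin 5), (0 : Fin 5) ∈ T → (∑ m ∈ T, LyThree.idxList m) ∣ 8835156 →
      (∑ m ∈ T, LyThree.idxList m) = 1 ∨ (∑ m ∈ T, LyThree.idxList m) = 8835156 := by
    decide +kernel
  refine key _ ?_ hd
  rw [Finset.mem_map_equiv]
  exact h0 _ (hj0 0 rfl)

theorem simple : IsSimpleGroup P :=
  DCoset.Ly.simple_eq K.D K.C K.steps K.src K.valid K.sum K.live K.hsub K.facts.1 K.facts.2.2

theorem central : Nat.card (Subgroup.centralizer ({tt} : Set P)) < 3 * 39916800 := by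
  haveI := K.simple
  haveI := K.facts.1
  obtain ⟨O⟩ := LyThree.orbits_of K.D K.C K.steps K.src K.valid K.sum K.facts.2.2 K.live K.mem
  exact centralizer_small O

theorem fusion {G : Type*} [Group G] [Finite G] (hG : Cfsg.Spor.IsoLy G) (S : Sylow 2 G) :
    (Cfsg.groupFusionSystem (S : Subgroup G)).IsSimple 2 := by
  haveI := K.simple
  obtain ⟨e⟩ := hG
  exact isSimple_fusion K.facts.2.1 K.central (G := G) e.symm S

theorem perm : ∃ H : Subgroup (Equiv.Perm (Fin 8835156)), Cfsg.IsLy H ∧
    MulAction.IsPretransitive H (Fin 8835156) ∧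
    Cfsg.IsG2 (MulAction.stabilizer H (0 : Fin 8835156)) ∧
    ∃ t : H, orderOf t = 2 ∧ Cfsg.IsNonsplitDoubleCover (Subgroup.centralizer ({t} : Set H))
      (alternatingGroup (Fin 11)) := by
  haveI := K.simple
  exact exists_perm (by norm_num) K.facts.2.1 K.facts.2.2 K.central

end CertData

end Cfsg.Agent.LyLocal
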