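import Cfsg.Agent.LyThree.Cls
import Mathlib.GroupTheory.OrderOfElement

/-!
Bounds on the involutions of a subgroup: by enumerating the products of its transversals, or from
the order of a centraliser of an element of order three.
-/

set_option autoImplicit false

namespace Cfsg.Agent.LyLocal.Invol

open Cfsg.Agent.DCoset Cfsg.Agent.CosetCert Cfsg.Agent.LyThree

/-- One for a tuple of an element squaring to one other than one, its words listed. -/
noncomputable def fullN (P : Tab) (v : Nat) (ws : List Nat) : Nat :=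
  Bool.rec (motive := fun _ => Nat) 0
    (Bool.rec (motive := fun _ => Nat) 1 0 (Nat.beq v P.base))
    (Nat.beq (List.rec (motive := fun _ => Nat → Nat) (fun u => u)
      (fun w _ ih u => force (P.app u w) fun u' => ih u') ws v) P.base)

/-- The same, trying the first base point before the whole tuple. -/
noncomputable def leafN (P : Tab) (v : Nat) (ws : List Nat) : Nat :=
  Bool.rec (motive := fun _ => Nat) 0 (fullN P v ws)
    (Nat.beq (List.rec (motive := fun _ => Nat → Nat) (fun p => p)
      (fun w _ ih p => force (actW P.act p w) fun p' => ih p') ws (fld v 0)) (fld P.base 0))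

/-- Sum of `f` below `n`. -/
noncomputable def sumN (n : Nat) (f : Nat → Nat) : Nat :=
  Nat.rec (motive := fun _ => Nat) 0 (fun i acc => Nat.add acc (f i)) n

/-- The number of products of transversal words, continuing a prefix, that square to one. -/
noncomputable def cnt (T : TSift) (P : Tab) : Nat → Nat → List Nat → Nat :=
  fun d => Nat.rec (motive := fun _ => Nat → List Nat → Nat) (fun v ws => leafN P v ws)
    (fun d' ih v ws => sumN (T.size d') fun i => force (T.rep d' i) fun w =>
      force (P.app v w) fun v' => ih v' (ws ++ [w])) d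

theorem sumN_succ (n : Nat) (f : Nat → Nat) : sumN (n + 1) f = sumN n f + f n := rfl

theorem sumN_eq (f : Nat → Nat) : ∀ n, sumN n f = ∑ i ∈ Finset.range n, f i
  | 0 => rfl
  | n + 1 => by rw [sumN_succ, sumN_eq f n, Finset.sum_range_succ]

theorem cnt_zero (T : TSift) (P : Tab) (v : Nat) (ws : List Nat) : cnt T P 0 v ws = leafN P v ws := rfl

theorem cnt_succ (T : TSift) (P : Tab) (d v : Nat) (ws : List Nat) : cnt T P (d + 1) v ws =
    ∑ i ∈ Finset.range (T.size d), cnt T P d (P.app v (T.rep d i)) (ws ++ [T.rep d i]) := by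
  show sumN (T.size d) _ = _
  rw [sumN_eq]
  refine Finset.sum_congr rfl fun i _ => ?_
  simp only [cnt, force_eq]

variable {Q : Type*} [Group Q] {M : QModel Q} {T : TSift}

/-- The part of the count with the upper levels down to the second fixed by a code. -/
noncomputable def part (T : TSift) (P : Tab) : Nat → Nat → List Nat → Nat → Nat :=
  fun e => Nat.rec (motive := fun _ => Nat → List Nat → Nat → Nat) (fun v ws _ => cnt T P 1 v ws)
    (fun e' ih v ws c => force (T.size (Nat.succ e')) fun n =>
      force (T.rep (Nat.succ e') (Nat.mod c n)) fun w => force (P.app v w) fun v' =>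
        ih v' (ws ++ [w]) (Nat.div c n)) e

theorem part_succ (T : TSift) (P : Tab) (e v : Nat) (ws : List Nat) (c : Nat) :
    part T P (e + 1) v ws c =
      part T P e (P.app v (T.rep (e + 1) (c % T.size (e + 1))))
        (ws ++ [T.rep (e + 1) (c % T.size (e + 1))]) (c / T.size (e + 1)) := by
  simp only [part, force_eq]
  rfl

theorem cnt_eq_part (T : TSift) (P : Tab) : ∀ e v ws, cnt T P (e + 1) v ws =
    ∑ c ∈ Finset.range ((List.range e).map fun l => T.size (l + 1)).prod, part T P e v ws c
  | 0, v, ws => by simp [part]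
  | e + 1, v, ws => by
    rw [cnt_succ, List.range_succ, List.map_append, List.prod_append, List.map_singleton,
      List.prod_singleton]
    set N := ((List.range e).map fun l => T.size (l + 1)).prod
    set n := T.size (e + 1)
    simp only [cnt_eq_part T P e]
    rw [← Finset.sum_product']
    refine Finset.sum_nbij' (fun p => p.1 + n * p.2) (fun c => (c % n, c / n)) ?_ ?_ ?_ ?_ ?_
    · rintro ⟨i, c⟩ h
      simp only [Finset.mem_product, Finset.mem_range] at h ⊢
      obtain ⟨h1, h2⟩ := h
      show i + n * c < N * n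
      calc i + n * c < n * (c + 1) := by rw [Nat.mul_add, Nat.mul_one]; omega
        _ ≤ n * N := Nat.mul_le_mul_left _ h2
        _ = N * n := Nat.mul_comm _ _
    · intro c h
      simp only [Finset.mem_product, Finset.mem_range] at h ⊢
      refine ⟨Nat.mod_lt _ (Nat.pos_of_ne_zero fun e => ?_),
        Nat.div_lt_of_lt_mul (by rw [Nat.mul_comm]; exact h)⟩
      rw [e, Nat.mul_zero] at h
      exact Nat.not_lt_zero _ h
    · rintro ⟨i, c⟩ h
      simp only [Finset.mem_product, Finset.mem_range] at h
      have hn : 0 < n := by omega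
      simp only [Nat.add_mul_mod_self_left, Nat.mod_eq_of_lt h.1, Nat.add_mul_div_left _ _ hn,
        Nat.div_eq_of_lt h.1, Nat.zero_add]
    · intro c _
      exact Nat.mod_add_div c n
    · rintro ⟨i, c⟩ h
      simp only [Finset.mem_product, Finset.mem_range] at h
      have hn : 0 < n := by omega
      rw [part_succ, Nat.add_mul_mod_self_left, Nat.mod_eq_of_lt h.1, Nat.add_mul_div_left _ _ hn,
        Nat.div_eq_of_lt h.1, Nat.zero_add]

/-- The sum of the parts in a range of codes. -/
noncomputable def partSum (T : TSift) (P : Tab) (e lo n : Nat) : Nat :=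
  sumN n fun j => part T P e P.base [] (Nat.add lo j)

theorem partSum_append {T : TSift} {P : Tab} {e lo n m a b : Nat} (h1 : partSum T P e lo n = a)
    (h2 : partSum T P e (lo + n) m = b) : partSum T P e lo (n + m) = a + b := by
  rw [← h1, ← h2]
  simp only [partSum, sumN_eq, Nat.add_eq]
  rw [Finset.sum_range_add]
  simp only [Nat.add_assoc]

theorem cnt_eq_partSum {T : TSift} {P : Tab} {e n a : Nat}
    (hn : ((List.range e).map fun l => T.size (l + 1)).prod = n) (h : partSum T P e 0 n = a) :
    cnt T P (e + 1) P.base [] = a := by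
  rw [cnt_eq_part, hn, ← h, partSum, sumN_eq]
  simp only [Nat.add_eq, Nat.zero_add]

/-- The products of transversal words from the levels below `l`, higher levels first. -/
def prodSet (M : QModel Q) (T : TSift) : Nat → Set Q :=
  fun l => Nat.rec ({1} : Set Q)
    (fun d S => {x | ∃ i, i < T.size d ∧ ∃ y ∈ S, x = M.el (T.rep d i) * y}) l

theorem foldl_tup : ∀ (ws : List Nat), (∀ w ∈ ws, M.toTab.okWord w = true) → ∀ a : Q,
    List.rec (motive := fun _ => Nat → Nat) (fun u => u)
      (fun w _ ih u => force (M.toTab.app u w) fun u' => ih u') ws (M.tup a) =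
      M.tup (a * (ws.map M.el).prod)
  | [], _, a => by simp
  | w :: ws, hw, a => by
    show force (M.toTab.app (M.tup a) w) _ = _
    rw [force_eq, TSift.tup_el M (hw w List.mem_cons_self),
      foldl_tup ws (fun x hx => hw x (List.mem_cons_of_mem _ hx)), List.map_cons, List.prod_cons,
      mul_assoc]

theorem foldl_pt : ∀ (ws : List Nat), (∀ w ∈ ws, M.toTab.okWord w = true) → ∀ a : Q, 0 < M.k →
    List.rec (motive := fun _ => Nat → Nat) (fun p => p)
      (fun w _ ih p => force (actW M.toTab.act p w) fun p' => ih p') ws (fld (M.tup a) 0) =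
      fld (M.tup (a * (ws.map M.el).prod)) 0
  | [], _, a, _ => by simp
  | w :: ws, hw, a, hk => by
    show force (actW M.toTab.act (fld (M.tup a) 0) w) _ = _
    rw [force_eq, ← M.fld_tup_mul _ (hw w List.mem_cons_self) _ hk,
      foldl_pt ws (fun x hx => hw x (List.mem_cons_of_mem _ hx)) _ hk, List.map_cons, List.prod_cons,
      mul_assoc]

variable (V : TSift.Ok T M.toTab)
include V

theorem cnt_spec [Finite Q] (hk : 0 < M.k) : ∀ d, d ≤ M.k → ∀ (a : Q) (ws : List Nat),
    (∀ w ∈ ws, M.toTab.okWord w = true) → (ws.map M.el).prod = a →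
    Nat.card {x : Q // x ∈ prodSet M T d ∧ orderOf (a * x) = 2} ≤ cnt T M.toTab d (M.tup a) ws
  | 0, _, a, ws, hw, ha => by
    by_cases h : orderOf a = 2
    · have h2 : a * a = 1 := by rw [← pow_two, ← h, pow_orderOf_eq_one]
      have h1 : Nat.beq (M.tup a) M.base = false := by
        cases e : Nat.beq (M.tup a) M.base
        · rfl
        · rw [M.inj ((Nat.eq_of_beq_eq_true e).trans M.one.symm), orderOf_one] at h
          exact absurd h (by norm_num)
      have e : leafN M.toTab (M.tup a) ws = 1 := by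
        rw [leafN, fullN, foldl_tup ws hw, foldl_pt ws hw a hk, ha, h2, M.one, Nat.beq_refl, Nat.beq_refl, h1]
      rw [cnt_zero, e, Finite.card_le_one_iff_subsingleton]
      exact ⟨fun x y => Subtype.ext ((x.2.1 : x.1 = 1).trans (y.2.1 : y.1 = 1).symm)⟩
    · have : IsEmpty {x : Q // x ∈ prodSet M T 0 ∧ orderOf (a * x) = 2} :=
        ⟨fun ⟨x, hx, hx2⟩ => h (by rwa [show x = 1 from hx, mul_one] at hx2)⟩
      rw [Nat.card_of_isEmpty]
      exact Nat.zero_le _
  | d + 1, hd, a, ws, hw, ha => by
    classical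
    have : Fintype Q := Fintype.ofFinite Q
    rw [cnt_succ]
    have hr : ∀ i, i < T.size d → M.toTab.okWord (T.rep d i) = true := fun i hi =>
      (TSift.rep_spec V (show d < M.k by omega) hi).1
    calc Nat.card {x : Q // x ∈ prodSet M T (d + 1) ∧ orderOf (a * x) = 2}
        ≤ Nat.card (Σ i : Fin (T.size d),
          {y : Q // y ∈ prodSet M T d ∧ orderOf (a * M.el (T.rep d i) * y) = 2}) := by
          refine Nat.card_le_card_of_surjective
            (fun p => ⟨M.el (T.rep d p.1) * p.2.1, ⟨p.1, p.1.2, p.2.1, p.2.2.1, rfl⟩,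
              by rw [← mul_assoc]; exact p.2.2.2⟩) ?_
          rintro ⟨x, hx, hx2⟩
          obtain ⟨i, hi, y, hy, rfl⟩ := hx
          exact ⟨⟨⟨i, hi⟩, y, hy, by rw [mul_assoc]; exact hx2⟩, rfl⟩
      _ = ∑ i : Fin (T.size d),
          Nat.card {y : Q // y ∈ prodSet M T d ∧ orderOf (a * M.el (T.rep d i) * y) = 2} :=
          Nat.card_sigma
      _ ≤ ∑ i : Fin (T.size d),
          cnt T M.toTab d (M.tup (a * M.el (T.rep d i))) (ws ++ [T.rep d i]) := by
          refine Finset.sum_le_sum fun i _ => cnt_spec hk d (by omega) _ _ ?_ ?_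
          · intro w h
            rcases List.mem_append.1 h with h | h
            · exact hw w h
            · rw [List.mem_singleton.1 h]; exact hr i i.2
          · simp [ha]
      _ = _ := by
          rw [← Fin.sum_univ_eq_sum_range]
          exact Finset.sum_congr rfl fun i _ => by rw [TSift.tup_el M (hr i i.2)]

theorem sift_prod : ∀ d l, l + d = M.k → ∀ a, TSift.sift T M.toTab d l (M.tup a) = true →
    ∀ x ∈ prodSet M T l, a * x ∈ prodSet M T M.k
  | 0, l, hl, a, h, x, hx => by
    have e : M.tup a = M.base := Nat.eq_of_beq_eq_true h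
    rw [← M.one] at e
    rw [M.inj e, one_mul]
    exact (show l = M.k by omega) ▸ hx
  | d + 1, l, hl, a, h, x, hx => by
    rw [TSift.sift_succ] at h
    simp only [Bool.and_eq_true] at h
    obtain ⟨hi, -, h⟩ := h
    have hi := Nat.ble_eq.mp hi
    obtain ⟨-, hw, hinv, -⟩ := TSift.rep_spec V (show l < M.k by omega) hi
    rw [TSift.tup_el M hw] at h
    have h1 := sift_prod d (l + 1) (by omega) _ h _
      (⟨_, hi, x, hx, rfl⟩ : M.el (T.rep l _) * x ∈ prodSet M T (l + 1))
    rwa [hinv, ← mul_assoc, inv_mul_cancel_right] at h1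

/-- The enumeration bounds the involutions. -/
theorem card_le_cnt [Finite Q] (S : Subgroup Q) (hgen : ∀ a, a < T.nGen → M.el (T.gen a) ∈ S)
    (hcard : Nat.card S ≤ ((List.range M.k).map T.size).prod) (hk : 0 < M.k) :
    Nat.card {s : Q // s ∈ S ∧ orderOf s = 2} ≤ cnt T M.toTab M.k M.base [] := by
  have h := cnt_spec V hk M.k le_rfl (1 : Q) [] (by simp) (by simp)
  rw [M.one] at h
  refine le_trans ?_ h
  refine Nat.card_le_card_of_injective
    (fun s : {s : Q // s ∈ S ∧ orderOf s = 2} =>
      (⟨s.1, ?_, by rw [one_mul]; exact s.2.2⟩ :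
        {x : Q // x ∈ prodSet M T M.k ∧ orderOf (1 * x) = 2}))
    fun a b e => Subtype.ext (congrArg Subtype.val e :)
  have hm := (TSift.mem_iff V S hgen hcard s.1).1 s.2.1
  simpa using sift_prod V M.k 0 (by omega) s.1 hm 1 rfl

omit V

/-- At most one involution in a coset of a subgroup of order three, unless it inverts it. -/
theorem card_le_third [Finite Q] {S : Subgroup Q} {y : Q} (hy : y ∈ S) (ho : orderOf y = 3) :
    Nat.card {s : Q // s ∈ S ∧ orderOf s = 2} ≤
      Nat.card ((Subgroup.centralizer ({y} : Set Q)).subgroupOf S) + Nat.card S / 3 := by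
  classical
  let I := {s : Q // s ∈ S ∧ orderOf s = 2}
  let Y := (Subgroup.zpowers y).subgroupOf S
  have hY : Nat.card Y = 3 := by
    rw [Nat.card_congr (Subgroup.subgroupOfEquivOfLe (Subgroup.zpowers_le.2 hy)).toEquiv,
      Nat.card_zpowers, ho]
  have hidx : Y.index = Nat.card S / 3 := by
    rw [← Y.card_mul_index, hY]; omega
  have hsq : ∀ s : I, (s.1 * s.1 : Q) = 1 := fun s => by
    have h := pow_orderOf_eq_one s.1
    rwa [s.2.2, pow_two] at h
  have h : Nat.card I ≤ Nat.card {s : I // s.1 * y * s.1 = y⁻¹} +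
      Nat.card {s : I // ¬ s.1 * y * s.1 = y⁻¹} := by
    rw [← Nat.card_sum]
    exact (Nat.card_congr (Equiv.sumCompl _)).ge
  refine le_trans h (Nat.add_le_add ?_ ?_)
  · rcases isEmpty_or_nonempty {s : I // s.1 * y * s.1 = y⁻¹} with he | ⟨⟨s0, hs0⟩⟩
    · rw [Nat.card_of_isEmpty]; exact Nat.zero_le _
    refine Nat.card_le_card_of_injective (fun s => ⟨⟨s0.1 * s.1.1, S.mul_mem s0.2.1 s.1.2.1⟩, ?_⟩)
      fun a b e => Subtype.ext (Subtype.ext
        (mul_left_cancel (congrArg (fun z => ((Subtype.val z : S) : Q)) e :)))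
    rw [Subgroup.mem_subgroupOf, Subgroup.mem_centralizer_singleton_iff]
    obtain ⟨s, hs⟩ := s
    have e1 : s.1 * y = y⁻¹ * s.1 := by
      calc s.1 * y = s.1 * y * (s.1 * s.1) := by rw [hsq s, mul_one]
        _ = s.1 * y * s.1 * s.1 := by group
        _ = y⁻¹ * s.1 := by rw [hs]
    have e2 : s0.1 * y⁻¹ = y * s0.1 := by
      calc s0.1 * y⁻¹ = s0.1 * (s0.1 * y * s0.1) := by rw [hs0]
        _ = s0.1 * s0.1 * (y * s0.1) := by group
        _ = y * s0.1 := by rw [hsq s0, one_mul]
    show s0.1 * s.1 * y = y * (s0.1 * s.1)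
    rw [mul_assoc, e1, ← mul_assoc, e2, mul_assoc]
  · rw [← hidx, Subgroup.index_eq_card]
    refine Nat.card_le_card_of_injective (fun s => QuotientGroup.mk ⟨s.1.1, s.1.2.1⟩) ?_
    intro a b e
    have hm : a.1.1⁻¹ * b.1.1 ∈ Subgroup.zpowers y :=
      (QuotientGroup.eq (s := Y) (a := ⟨a.1.1, a.1.2.1⟩) (b := ⟨b.1.1, b.1.2.1⟩)).1 e
    obtain ⟨n, hn, e'⟩ : ∃ n, n < 3 ∧ y ^ n = a.1.1⁻¹ * b.1.1 := by
      rw [mem_zpowers_iff_mem_range_orderOf, ho] at hm
      simpa using hm
    have hb : b.1.1 = a.1.1 * y ^ n := by rw [e', mul_inv_cancel_left]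
    have hbb : (a.1.1 * y ^ n) * (a.1.1 * y ^ n) = 1 := hb ▸ hsq b.1
    interval_cases n
    · exact Subtype.ext (Subtype.ext (by rw [hb, pow_zero, mul_one]))
    · refine absurd ?_ a.2
      rw [pow_one] at hbb
      exact eq_inv_of_mul_eq_one_left (by rw [← hbb]; group)
    · refine absurd ?_ a.2
      have hy3 : y ^ 3 = 1 := by rw [← ho, pow_orderOf_eq_one]
      have hy2 : y ^ 2 = y⁻¹ := eq_inv_of_mul_eq_one_left (by rw [← pow_succ, hy3])
      rw [hy2] at hbb
      have e1 : a.1.1 * y⁻¹ * a.1.1 = y := by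
        calc a.1.1 * y⁻¹ * a.1.1 = a.1.1 * y⁻¹ * (a.1.1 * y⁻¹) * y := by group
          _ = y := by rw [hbb, one_mul]
      calc a.1.1 * y * a.1.1 = (a.1.1⁻¹ * y⁻¹ * a.1.1⁻¹)⁻¹ := by group
        _ = y⁻¹ := by rw [inv_eq_of_mul_eq_one_right (hsq a.1), e1]

end Cfsg.Agent.LyLocal.Invol
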