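import Cfsg.Agent.LyLocal.Invol
import Cfsg.Agent.LyThree.Node2Data
import Cfsg.Agent.DCoset.Ly.Table

/-! The involutions of the stabiliser of node 2, counted. -/

set_option Elab.async false
set_option maxRecDepth 100000

namespace Cfsg.Agent.LyLocal.Invol

open Cfsg.Agent.DCoset Cfsg.Agent.CosetCert Cfsg.Agent.LyThree

theorem n2_part_0 : partSum n2T Ly.tab 3 0 8 = 6 := by
  decide +kernel

theorem n2_part_1 : partSum n2T Ly.tab 3 8 8 = 7 := by
  decide +kernel

theorem n2_part_2 : partSum n2T Ly.tab 3 16 8 = 5 := by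
  decide +kernel

theorem n2_part_3 : partSum n2T Ly.tab 3 24 8 = 11 := by
  decide +kernel

theorem n2_part_4 : partSum n2T Ly.tab 3 32 8 = 4 := by
  decide +kernel

theorem n2_part_5 : partSum n2T Ly.tab 3 40 8 = 2 := by
  decide +kernel

theorem n2_part_6 : partSum n2T Ly.tab 3 48 8 = 5 := by
  decide +kernel

theorem n2_part_7 : partSum n2T Ly.tab 3 56 8 = 6 := by
  decide +kernel

theorem n2_part_8 : partSum n2T Ly.tab 3 64 8 = 4 := by
  decide +kernel

theorem n2_part_9 : partSum n2T Ly.tab 3 72 8 = 1 := by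
  decide +kernel

theorem n2_part_10 : partSum n2T Ly.tab 3 80 8 = 5 := by
  decide +kernel

theorem n2_part_11 : partSum n2T Ly.tab 3 88 8 = 7 := by
  decide +kernel

theorem n2_cnt : cnt n2T Ly.tab 4 Ly.tab.base [] = 63 :=
  cnt_eq_partSum (n := 96) (by decide +kernel) (partSum_append (partSum_append (partSum_append (partSum_append (partSum_append (partSum_append (partSum_append (partSum_append (partSum_append (partSum_append (partSum_append n2_part_0 n2_part_1) n2_part_2) n2_part_3) n2_part_4) n2_part_5) n2_part_6) n2_part_7) n2_part_8) n2_part_9) n2_part_10) n2_part_11)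

end Cfsg.Agent.LyLocal.Invol
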