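import Cfsg.Agent.LyMat.Main
import Cfsg.Agent.LyLocal.Mats0
import Cfsg.Agent.LyLocal.Mats1

/-!
# Named elements around an involution centraliser of the Lyons group

Letters from 10 on are products of earlier letters; their matrices in degree 111 are checked
against these words.
-/

set_option autoImplicit false
set_option maxRecDepth 100000

namespace Cfsg.Agent.LyLocal

open Cfsg.Agent.LyMat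

/-- The words of the new letters. -/
def defWords : List (List Nat) := [
  [1, 7, 0, 7, 5, 2, 0, 2, 2, 8, 0, 8, 0, 7, 2, 1, 5, 8, 5, 8, 6, 7, 7, 1, 3, 3, 6, 7, 2, 0, 8, 5, 3, 7, 7, 4, 3],
  [10, 10, 10, 10, 10, 10, 10],
  [2, 2, 8, 0, 3, 5, 7, 8, 11, 3, 2, 0, 8, 5, 3, 7, 7],
  [7, 5, 7, 0, 2, 5, 2, 11, 7, 0, 7, 5, 2, 0, 2],
  [7, 5, 7, 0, 2, 5, 2, 8, 11, 3, 7, 0, 7, 5, 2, 0, 2],
  [8, 7, 5, 7, 0, 2, 5, 5, 7, 0, 2, 5, 2, 11, 7, 0, 7, 5, 2, 0, 0, 7, 5, 2, 0, 2, 3],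
  [9, 8, 7, 5, 7, 0, 2, 5, 2, 2, 2, 8, 0, 3, 5, 7, 11, 2, 0, 8, 5, 3, 7, 7, 7, 0, 7, 5, 2, 0, 2, 3, 4],
  [6, 9, 8, 7, 5, 7, 0, 2, 5, 2, 2, 2, 8, 0, 3, 5, 7, 11, 2, 0, 8, 5, 3, 7, 7, 7, 0, 7, 5, 2, 0, 2, 3, 4, 1],
  [6, 6, 9, 8, 7, 5, 7, 0, 2, 5, 2, 2, 2, 8, 0, 3, 5, 7, 11, 2, 0, 8, 5, 3, 7, 7, 7, 0, 7, 5, 2, 0, 2, 3, 4, 1, 1],
  [6, 6, 6, 9, 8, 7, 5, 7, 0, 2, 5, 2, 2, 2, 8, 0, 3, 5, 7, 11, 2, 0, 8, 5, 3, 7, 7, 7, 0, 7, 5, 2, 0, 2, 3, 4, 1, 1, 1],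
  [7, 5, 7, 0, 2, 5, 2, 6, 6, 6, 9, 8, 7, 5, 7, 0, 2, 5, 2, 5, 11, 0, 7, 0, 7, 5, 2, 0, 2, 3, 4, 1, 1, 1, 7, 0, 7, 5, 2, 0, 2],
  [0, 0, 0, 0],
  [12, 13, 16, 17, 12, 13, 14, 15],
  [22, 7, 7, 6, 1, 21, 6, 1, 2, 2],
  [23, 23, 23, 23, 23, 7, 7, 6, 1],
  [12, 14, 13, 15, 12, 14, 16, 18, 17, 19, 16, 18],
  [12, 13, 14, 15, 12, 13, 17, 16],
  [13, 12, 14, 16, 15, 17, 14, 16]]

/-- The matrix of a letter. -/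
def lmat : List (List Blk) := [lm0, lm1, lm2, lm3, lm4, lm5, lm6, lm7, lm8, lm9, dm10, dm11, dm12, dm13, dm14, dm15, dm16, dm17, dm18, dm19, dm20, dm21, dm22, dm23, dm24, dm25, dm26, dm27]

/-- The matrix of a letter. -/
def mm (x : Nat) : List Blk := lmat.getD x lm0

end Cfsg.Agent.LyLocal
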