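import Cfsg.Agent.LyLocal.Letters

/-! Comparing products of letters. -/

set_option autoImplicit false

namespace Cfsg.Agent.LyLocal

open Cfsg.Agent.LyMat Cfsg.Agent.CosetCert

/-- Two words have the same product. -/
noncomputable def sameB (w v : List Nat) : Bool :=
  wordK mask111 mm w id111 fun P => wordK mask111 mm v id111 fun Q => eqB P Q

end Cfsg.Agent.LyLocal
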